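import Cfsg.Agent.Lib.ChevLift.Check
import Cfsg.Agent.Lib.CurtisTits.AllTypes
import Cfsg.Agent.Lib.Multiplier.Perfect

/-!
The lifting for the seven tabulated types over fields with at least four elements (five for G2).
-/

set_option autoImplicit false
set_option maxRecDepth 100000

namespace Cfsg.Agent.Lib.ChevLift

open Cfsg.Lie
open Cfsg.Agent.Lib.ChevStructure
open Cfsg.Agent.Lib.CurtisTits
open scoped MatrixGroups Matrix commutatorElement

theorem condB_B2 : condB Cert.B2.core 2 false = true := by decide +kernel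
theorem condB_G2 : condB Cert.G2.core 3 true = true := by decide +kernel
theorem condB_D4 : condB Cert.D4.core 2 false = true := by decide +kernel
theorem condB_F4 : condB Cert.F4.core 2 false = true := by decide +kernel
theorem condB_E6 : condB Cert.E6.core 2 false = true := by decide +kernel
theorem condB_E7 : condB Cert.E7.core 2 false = true := by decide +kernel
theorem condB_E8 : condB Cert.E8.core 2 false = true := by decide +kernel

theorem exists_unit_pow_ne (K : Type*) [Field K] {n e : ℕ} (hn : 1 ≤ n) (hne : n ≤ e)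
    (hK : ∃ s : Finset K, e + 1 < s.card) : ∃ z : Kˣ, z ^ n ≠ 1 := by
  classical
  obtain ⟨s, hs⟩ := hK
  by_contra hno
  push Not at hno
  have hsub : s.erase 0 ⊆ (Polynomial.nthRoots n (1 : K)).toFinset := by
    intro x hx
    rw [Multiset.mem_toFinset, Polynomial.mem_nthRoots hn]
    simpa using congrArg Units.val (hno (Units.mk0 x (Finset.ne_of_mem_erase hx)))
  have h1 := (Finset.card_le_card hsub).trans
    ((Multiset.toFinset_card_le _).trans (Polynomial.card_nthRoots n 1))
  have := Finset.pred_card_le_card_erase (a := (0 : K)) (s := s)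
  omega

theorem exists_scalar (K : Type*) [Field K] (hK : ∃ s : Finset K, 4 < s.card) :
    ∃ k : K, k ≠ 0 ∧ k ≠ 1 ∧ k * (1 - k) ≠ 1 := by
  classical
  obtain ⟨s, hs⟩ := hK
  by_contra hno
  push Not at hno
  by_cases hex : ∃ a ∈ s, a ≠ 0 ∧ a ≠ 1
  · obtain ⟨a, -, ha0, ha1⟩ := hex
    have hsub : s ⊆ {0, 1, a, 1 - a} := by
      intro x _
      simp only [Finset.mem_insert, Finset.mem_singleton]
      by_contra hx
      push Not at hx
      obtain ⟨h0, h1, h2, h3⟩ := hx
      have hx' := hno x h0 h1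
      have ha' := hno a ha0 ha1
      rcases mul_eq_zero.1 (show (x - a) * (x + a - 1) = 0 by linear_combination ha' - hx') with h | h
      · exact h2 (sub_eq_zero.1 h)
      · exact h3 (eq_sub_of_add_eq (sub_eq_zero.1 h))
    have := (Finset.card_le_card hsub).trans Finset.card_le_four
    omega
  · push Not at hex
    have hsub : s ⊆ {0, 1} := fun x hx => by
      rcases eq_or_ne x 0 with h | h
      · simp [h]
      · simp [hex x hx h]
    have := (Finset.card_le_card hsub).trans Finset.card_le_two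
    omega

universe u

/-- The certificates and the lifting conditions together. -/
theorem cond_all (D : ChevalleyDatum) (hD : D ∈ [chevG2, chevB2, chevD4, chevF4, chevE6, chevE7, chevE8])
    (K : Type u) [Field K] (h4 : ∃ s : Finset K, 3 < s.card)
    (h5 : D = chevG2 → ∃ s : Finset K, 4 < s.card) :
    ∃ (C : Core D) (T : Tree C), SuppOne C ∧ CurtisTits.Cert.{u} C T ∧ Cond C K := by
  have hz : ∀ n : ℕ, 1 ≤ n → n ≤ 2 → ∃ z : Kˣ, z ^ n ≠ 1 := fun n h1 h2 => exists_unit_pow_ne K h1 h2 h4
  simp only [List.mem_cons, List.not_mem_nil, or_false] at hD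
  rcases hD with rfl | rfl | rfl | rfl | rfl | rfl | rfl
  · exact ⟨_, _, suppOne_G2, CertG2.cert, condB_sound _ condB_G2 (by norm_num)
      (fun n h1 h2 => exists_unit_pow_ne K h1 h2 (h5 rfl)) fun _ => exists_scalar K (h5 rfl)⟩
  · exact ⟨_, _, suppOne_B2, CertB2.cert, condB_sound _ condB_B2 le_rfl hz (by simp)⟩
  · exact ⟨_, _, suppOne_D4, CertD4.cert, condB_sound _ condB_D4 le_rfl hz (by simp)⟩
  · exact ⟨_, _, suppOne_F4, CertF4.cert, condB_sound _ condB_F4 le_rfl hz (by simp)⟩
  · exact ⟨_, _, suppOne_E6, CertE6.cert, condB_sound _ condB_E6 le_rfl hz (by simp)⟩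
  · exact ⟨_, _, suppOne_E7, CertE7.cert, condB_sound _ condB_E7 le_rfl hz (by simp)⟩
  · exact ⟨_, _, suppOne_E8, CertE8.cert, condB_sound _ condB_E8 le_rfl hz (by simp)⟩

/-- From the general linear group to the Chevalley group. -/
theorem exists_lift_group_of {D : ChevalleyDatum} {K : Type u} [Field K] {C : Core D} {T : Tree C}
    (cert : CurtisTits.Cert.{u} C T) (hs : SuppOne C) {E : Type*} [Group E]
    (π : E →* ↥(D.group K)) (hπ : Function.Surjective π) (hk : π.ker ≤ Subgroup.center E)
    (H : ∀ π' : E →* GL D.Idx K, π'.ker ≤ Subgroup.center E → (∀ g ∈ D.group K, ∃ e, π' e = g) →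
      ∃ τ : D.SteinbergCover K →* E, ∀ (r : Rt D) (t : K), π' (τ (D.scGen K r.val t)) = C.X K r t) :
    ∃ τ : D.SteinbergCover K →* E, π.comp τ = coverMap cert hs := by
  obtain ⟨τ, hτ⟩ := H ((D.group K).subtype.comp π) (fun x hx => hk (Subtype.ext (by simpa using hx)))
    (fun g hg => by
      obtain ⟨e, he⟩ := hπ ⟨g, hg⟩
      exact ⟨e, by simp [he]⟩)
  refine ⟨τ, PresentedGroup.ext fun ⟨r, t⟩ => ?_⟩
  rw [← scGen_of]
  exact Subtype.ext ((hτ r t).trans (coverMap_gen cert hs r t).symm)

/-- Every central extension of the Chevalley group receives the group presented by (R1), (R2). -/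
theorem exists_lift_group {D : ChevalleyDatum} {K : Type u} [Field K] {C : Core D} {T : Tree C}
    (cert : CurtisTits.Cert.{u} C T) (hc : Cond C K) (hs : SuppOne C) {E : Type*} [Group E]
    (π : E →* ↥(D.group K)) (hπ : Function.Surjective π) (hk : π.ker ≤ Subgroup.center E) :
    ∃ τ : D.SteinbergCover K →* E, π.comp τ = coverMap cert hs :=
  exists_lift_group_of cert hs π hπ hk (exists_lift cert hc)

/-- Two homomorphisms from a perfect group agreeing modulo the centre are equal. -/
theorem hom_ext_of_perfect {P H : Type*} [Group P] [Group H] (hP : commutator P = ⊤) {f g : P →* H}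
    (h : ∀ x, (f x)⁻¹ * g x ∈ Subgroup.center H) : f = g := by
  have key : ∀ a b z w : H, z ∈ Subgroup.center H → w ∈ Subgroup.center H →
      ⁅a * z, b * w⁆ = ⁅a, b⁆ := by
    intro a b z w hz hw
    rw [Subgroup.mem_center_iff] at hz hw
    have hc : ∀ x y : H, ⁅x, y⁆ = x * y * (y * x)⁻¹ := fun x y => by
      simp [commutatorElement_def, mul_assoc]
    rw [hc, hc, Commute.mul_mul_mul_comm (show Commute z b from (hz b).symm),
      Commute.mul_mul_mul_comm (show Commute w a from (hw a).symm), hw z]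
    group
  ext x
  have hle : commutator P ≤ f.eqLocus g := by
    rw [commutator_def, Subgroup.commutator_le]
    intro a _ b _
    show f ⁅a, b⁆ = g ⁅a, b⁆
    have ha : g a = f a * ((f a)⁻¹ * g a) := (mul_inv_cancel_left _ _).symm
    have hb : g b = f b * ((f b)⁻¹ * g b) := (mul_inv_cancel_left _ _).symm
    rw [map_commutatorElement, map_commutatorElement, ha, hb, key _ _ _ _ (h a) (h b)]
  exact hle (hP ▸ Subgroup.mem_top x)

/-- A central extension of a perfect group, composed with a map with central kernel, has central kernel. -/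
theorem ker_comp_le_center {P Δ G : Type*} [Group P] [Group Δ] [Group G] (q : P →* Δ)
    (hq : Function.Surjective q) (hqk : q.ker ≤ Subgroup.center P) (ρ : Δ →* G)
    (hρk : ρ.ker ≤ Subgroup.center Δ) (hP : commutator Δ = ⊤) :
    (ρ.comp q).ker ≤ Subgroup.center P := by
  intro z hz
  have hzc : q z ∈ Subgroup.center Δ := hρk hz
  have hcomm : ∀ g : P, ⁅z, g⁆ ∈ Subgroup.center P := fun g => hqk (by
    rw [MonoidHom.mem_ker, map_commutatorElement]
    exact commutatorElement_eq_one_iff_mul_comm.2 (Subgroup.mem_center_iff.1 hzc (q g)).symm)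
  let f : P →* Subgroup.center P :=
    { toFun := fun g => ⟨⁅z, g⁆, hcomm g⟩
      map_one' := Subtype.ext (commutatorElement_one_right z)
      map_mul' := fun g g' => Subtype.ext (by
        show ⁅z, g * g'⁆ = ⁅z, g⁆ * ⁅z, g'⁆
        rw [commutatorElement_mul_right_eq_mul_conj, mul_assoc ⁅z, g⁆,
          Subgroup.mem_center_iff.1 (hcomm g') g, mul_assoc, mul_inv_cancel_right]) }
  have h1 : commutator P ≤ f.ker := by
    rw [commutator_def, Subgroup.commutator_le]
    intro a _ b _
    rw [MonoidHom.mem_ker, map_commutatorElement]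
    exact commutatorElement_eq_one_iff_mul_comm.2 (Subtype.ext (Subgroup.mem_center_iff.1 (f b).2 _))
  have h2 : (commutator P).map q = ⊤ := by
    rw [commutator_def, Subgroup.map_commutator, Subgroup.map_top_of_surjective q hq, ← commutator_def, hP]
  rw [Subgroup.mem_center_iff]
  intro g
  obtain ⟨c, hc, hcg⟩ : q g ∈ (commutator P).map q := h2 ▸ Subgroup.mem_top _
  have hd : c⁻¹ * g ∈ Subgroup.center P := hqk (by simp [MonoidHom.mem_ker, hcg])
  have h3 : ⁅z, c⁆ = 1 := congrArg Subtype.val (h1 hc)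
  have hzc' : Commute z c := commutatorElement_eq_one_iff_mul_comm.1 h3
  have hzd : Commute z (c⁻¹ * g) := Subgroup.mem_center_iff.1 hd z
  have := hzc'.mul_right hzd
  rw [mul_inv_cancel_left] at this
  exact this.symm

/-- If every central extension of `G` receives `Δ`, then `Δ` is universal. -/
theorem existsUnique_lift_of_forall {Δ G G₁ E : Type*} [Group Δ] [Group G] [Group G₁] [Group E]
    (ρ : Δ →* G) (hρ : Function.Surjective ρ) (hρk : ρ.ker ≤ Subgroup.center Δ) (hP : commutator Δ = ⊤)
    (H : ∀ (P : Subgroup (E × Δ)) (θ : ↥P →* G), Function.Surjective θ → θ.ker ≤ Subgroup.center ↥P →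
      ∃ τ : Δ →* ↥P, θ.comp τ = ρ)
    (π₁ : E →* G₁) (hπ : Function.Surjective π₁) (hk : π₁.ker ≤ Subgroup.center E) (σ : Δ →* G₁) :
    ∃! τ : Δ →* E, π₁.comp τ = σ := by
  obtain ⟨P, hmem⟩ : ∃ P : Subgroup (E × Δ), ∀ p, p ∈ P ↔ π₁ p.1 = σ p.2 :=
    ⟨(π₁.comp (MonoidHom.fst E Δ)).eqLocus (σ.comp (MonoidHom.snd E Δ)), fun _ => Iff.rfl⟩
  obtain ⟨q, hq'⟩ : ∃ q : ↥P →* Δ, ∀ p : ↥P, q p = (p : E × Δ).2 :=
    ⟨(MonoidHom.snd E Δ).comp P.subtype, fun _ => rfl⟩
  have hq : Function.Surjective q := fun d => by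
    obtain ⟨e, he⟩ := hπ (σ d)
    exact ⟨⟨(e, d), (hmem _).2 he⟩, hq' _⟩
  have hqk : q.ker ≤ Subgroup.center ↥P := by
    intro p hp
    rw [MonoidHom.mem_ker, hq'] at hp
    have hp1 : (p : E × Δ).1 ∈ Subgroup.center E := hk (by rw [MonoidHom.mem_ker, (hmem _).1 p.2, hp, map_one])
    rw [Subgroup.mem_center_iff]
    intro w
    refine Subtype.ext (Prod.ext (Subgroup.mem_center_iff.1 hp1 _) ?_)
    simp [hp]
  obtain ⟨τ, hτ⟩ := H P (ρ.comp q) (hρ.comp hq) (ker_comp_le_center q hq hqk ρ hρk hP)
  have hid : q.comp τ = MonoidHom.id Δ := by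
    refine hom_ext_of_perfect hP fun x => hρk ?_
    rw [MonoidHom.mem_ker, map_mul, map_inv, inv_mul_eq_one]
    exact DFunLike.congr_fun hτ x
  have hsnd : ∀ x, (τ x : E × Δ).2 = x := fun x => (hq' _).symm.trans (DFunLike.congr_fun hid x)
  refine ⟨((MonoidHom.fst E Δ).comp P.subtype).comp τ, ?_, fun τ' hτ' => ?_⟩
  · ext x
    exact ((hmem _).1 (τ x).2).trans (congrArg σ (hsnd x))
  · refine hom_ext_of_perfect hP fun x => hk ?_
    rw [MonoidHom.mem_ker, map_mul, map_inv, inv_mul_eq_one]
    exact (DFunLike.congr_fun hτ' x).trans (((hmem _).1 (τ x).2).trans (congrArg σ (hsnd x))).symm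

/-- Universality: lifts exist through every central extension of a group receiving the presented group. -/
theorem exists_universal_lift {D : ChevalleyDatum} {K : Type u} [Field K] {C : Core D} {T : Tree C}
    (cert : CurtisTits.Cert.{u} C T) (hc : Cond C K) (hs : SuppOne C)
    (hP : commutator (D.SteinbergCover K) = ⊤) {G₁ E : Type*} [Group G₁] [Group E] (π₁ : E →* G₁)
    (hπ : Function.Surjective π₁) (hk : π₁.ker ≤ Subgroup.center E) (σ : D.SteinbergCover K →* G₁) :
    ∃! τ : D.SteinbergCover K →* E, π₁.comp τ = σ :=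
  existsUnique_lift_of_forall (coverMap cert hs) (coverMap_surj cert hs) (coverMap_ker cert hs) hP
    (fun _ θ h1 h2 => exists_lift_group cert hc hs θ h1 h2) π₁ hπ hk σ

end Cfsg.Agent.Lib.ChevLift
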