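import Cfsg.Agent.Lib.ChevLift.All
import Cfsg.Agent.Lib.CurtisTits.Symbol

/-!
Schur multipliers of Chevalley groups and of Steinberg's groups from the lifting.
-/

set_option autoImplicit false
set_option linter.unusedSectionVars false

namespace Cfsg.Agent.Lib.ChevLift

open Cfsg Cfsg.Lie
open Cfsg.Agent.Lib.ChevStructure
open Cfsg.Agent.Lib.CurtisTits
open scoped commutatorElement

universe u

/-- A lift of a surjection to a stem extension is surjective. -/
theorem lift_surjective {P Δ G : Type*} [Group P] [Group Δ] [Group G] (ρ : P →* G)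
    (hρ : Function.Surjective ρ) (τ : Δ →* G) (hτ : IsStemExtension τ) (φ : P →* Δ)
    (hφ : τ.comp φ = ρ) : Function.Surjective φ := by
  have htop : φ.range ⊔ τ.ker = ⊤ := by
    rw [← Subgroup.comap_map_eq, MonoidHom.map_range, hφ, MonoidHom.range_eq_top.2 hρ, Subgroup.comap_top]
  have hle : commutator Δ ≤ φ.range := by
    rw [commutator_def, Subgroup.commutator_le]
    intro a _ b _
    obtain ⟨a₁, ha₁, a₂, ha₂, rfl⟩ := Subgroup.mem_sup_of_normal_right.1 (htop ▸ Subgroup.mem_top a :)
    obtain ⟨b₁, hb₁, b₂, hb₂, rfl⟩ := Subgroup.mem_sup_of_normal_right.1 (htop ▸ Subgroup.mem_top b :)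
    have ha := Subgroup.mem_center_iff.1 (hτ.2.1 ha₂)
    have hb := Subgroup.mem_center_iff.1 (hτ.2.1 hb₂)
    have hc : ∀ x y : Δ, ⁅x, y⁆ = x * y * (y * x)⁻¹ := fun x y => by
      simp [commutatorElement_def, mul_assoc]
    rw [hc, Commute.mul_mul_mul_comm (show Commute a₂ b₁ from (ha b₁).symm),
      Commute.mul_mul_mul_comm (show Commute b₂ a₁ from (hb a₁).symm), hb a₂,
      show a₁ * b₁ * (b₂ * a₂) * (b₁ * a₁ * (b₂ * a₂))⁻¹ = a₁ * b₁ * (b₁ * a₁)⁻¹ by group]
    exact mul_mem (mul_mem ha₁ hb₁) (inv_mem (mul_mem hb₁ ha₁))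
  rw [← MonoidHom.range_eq_top, eq_top_iff, ← htop]
  exact sup_le le_rfl (hτ.2.2.trans hle)

/-- A group receiving a universal group bijectively has trivial multiplier. -/
theorem hasCyclicSchurMultiplier_one_of_lifts {G : Type u} [Group G] [Finite G] {P : Type*} [Group P]
    (ρ : P →* G) (hρ : Function.Bijective ρ)
    (hU : ∀ (Δ : Type u) [Group Δ] (τ : Δ →* G), Function.Surjective τ → τ.ker ≤ Subgroup.center Δ →
      ∃ φ : P →* Δ, τ.comp φ = ρ) : HasCyclicSchurMultiplier G 1 := by
  refine Multiplier.hasCyclicSchurMultiplier_one_iff.2 fun Δ _ _ τ hτ => ?_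
  obtain ⟨φ, hφ⟩ := hU Δ τ hτ.1 hτ.2.1
  rw [Subgroup.eq_bot_iff_forall]
  intro z hz
  obtain ⟨x, rfl⟩ := lift_surjective ρ hρ.2 τ hτ φ hφ z
  have : ρ x = 1 := (DFunLike.congr_fun hφ x).symm.trans hz
  rw [hρ.1 (this.trans (map_one ρ).symm), map_one]

section

variable {D : ChevalleyDatum} {K : Type u} [Field K] [Finite K] {C : Core D} {T : Tree C}
  (cert : CurtisTits.Cert.{u} C T) (hs : SuppOne C)
include cert hs

theorem coverMap_eq_one_iff (x : D.SteinbergCover K) :
    coverMap cert hs x = 1 ↔ coverEquiv cert hs x ∈ Subgroup.center (D.SteinbergGroup K) := by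
  rw [← stMap_ker cert hs, MonoidHom.mem_ker, ← stMap_toSt cert hs]
  rfl

theorem finite_steinberg : Finite (D.SteinbergGroup K) := by
  have : Finite (torus (K := K) cert hs).range :=
    Finite.of_surjective _ (torus (K := K) cert hs).rangeRestrict_surjective
  have : Finite (stMap (K := K) cert hs).ker := by
    refine Finite.of_injective (β := (torus (K := K) cert hs).range) (fun x => ⟨x.1, ?_⟩) fun x y h => ?_
    · obtain ⟨c, hc⟩ := stMap_ker_torus cert hs x.2
      exact ⟨c, hc⟩
    · exact Subtype.ext (congrArg (fun z : (torus (K := K) cert hs).range => z.1) h)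
  have : Finite (D.SteinbergGroup K ⧸ (stMap (K := K) cert hs).ker) :=
    Finite.of_injective _ (QuotientGroup.kerLift_injective _)
  exact Finite.of_equiv _ (Subgroup.groupEquivQuotientProdSubgroup (s := (stMap (K := K) cert hs).ker)).symm

theorem finite_group : Finite ↥(D.group K) :=
  have := finite_steinberg (K := K) cert hs
  Finite.of_surjective _ (stMap_surj cert hs)

/-- A Chevalley group with trivial centre of the presented group has trivial multiplier. -/
theorem hasCyclic_group_one_of (hl : ∀ (E : Type u) [Group E] (θ : E →* ↥(D.group K)), Function.Surjective θ → θ.ker ≤ Subgroup.center E →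
      ∃ τ : D.SteinbergCover K →* E, θ.comp τ = coverMap cert hs)
    (hz : Subgroup.center (D.SteinbergGroup K) = ⊥) :
    HasCyclicSchurMultiplier ↥(D.group K) 1 := by
  have := finite_group (K := K) cert hs
  refine hasCyclicSchurMultiplier_one_of_lifts (coverMap cert hs) ⟨?_, coverMap_surj cert hs⟩
    fun Δ _ τ h1 h2 => hl Δ τ h1 h2
  rw [injective_iff_map_eq_one]
  intro x hx
  have := (coverMap_eq_one_iff cert hs x).1 hx
  rw [hz, Subgroup.mem_bot] at this
  exact (coverEquiv cert hs).map_eq_one_iff.1 this

/-- Steinberg's group has trivial multiplier. -/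
theorem hasCyclic_steinberg_one_of (hl : ∀ (E : Type u) [Group E] (θ : E →* ↥(D.group K)), Function.Surjective θ → θ.ker ≤ Subgroup.center E →
      ∃ τ : D.SteinbergCover K →* E, θ.comp τ = coverMap cert hs)
    (hP : commutator (D.SteinbergCover K) = ⊤) :
    HasCyclicSchurMultiplier (D.SteinbergGroup K) 1 := by
  have := finite_steinberg (K := K) cert hs
  refine hasCyclicSchurMultiplier_one_of_lifts (coverEquiv cert hs).toMonoidHom (coverEquiv cert hs).bijective
    fun Δ _ τ h1 h2 => (existsUnique_lift_of_forall (coverMap cert hs) (coverMap_surj cert hs) (coverMap_ker cert hs)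
      hP (fun _ θ a b => hl _ θ a b) τ h1 h2 _).exists

theorem commutator_steinberg (hP : commutator (D.SteinbergCover K) = ⊤) :
    commutator (D.SteinbergGroup K) = ⊤ := by
  have h := congrArg (Subgroup.map (coverEquiv (K := K) cert hs).toMonoidHom) hP
  rwa [commutator_def, Subgroup.map_commutator, ← MonoidHom.range_eq_map,
    MonoidHom.range_eq_top.2 (show Function.Surjective (coverEquiv (K := K) cert hs).toMonoidHom from
      (coverEquiv cert hs).surjective), ← commutator_def] at h

/-- A Chevalley group whose presented group has cyclic centre of order one or a prime. -/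
theorem hasCyclic_group_of (hl : ∀ (E : Type u) [Group E] (θ : E →* ↥(D.group K)), Function.Surjective θ → θ.ker ≤ Subgroup.center E →
      ∃ τ : D.SteinbergCover K →* E, θ.comp τ = coverMap cert hs)
    (hP : commutator (D.SteinbergCover K) = ⊤) {n : ℕ}
    (hn : n = 1 ∨ n.Prime) (hcard : Nat.card (Subgroup.center (D.SteinbergGroup K)) = n) :
    HasCyclicSchurMultiplier ↥(D.group K) n := by
  have := finite_group (K := K) cert hs
  have hfin := finite_steinberg (K := K) cert hs
  have hker : (stMap (K := K) cert hs).ker = Subgroup.center (D.SteinbergGroup K) := stMap_ker cert hs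
  have hcardk : Nat.card (stMap (K := K) cert hs).ker = Nat.card (Multiplicative (ZMod n)) := by
    rw [hker, hcard, Nat.card_congr Multiplicative.toAdd, Nat.card_zmod]
  have hst : IsStemExtension (stMap (K := K) cert hs) :=
    ⟨stMap_surj cert hs, hker.le, by rw [commutator_steinberg cert hs hP]; exact le_top⟩
  have hcyc : IsCyclic (stMap (K := K) cert hs).ker := by
    rcases hn with h | h
    · exact @isCyclic_of_subsingleton _ _ (Finite.card_le_one_iff_subsingleton.1 (by rw [hker, hcard, h]))
    · have := Fact.mk h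
      exact isCyclic_of_prime_card (p := n) (by rw [hker, hcard])
  refine Multiplier.hasSchurMultiplier_of_cover (stMap cert hs) hst (mulEquivOfCyclicCardEq hcardk) ?_
  intro Δ _ _ τ hτ
  obtain ⟨φ, hφ⟩ := hl Δ τ hτ.1 hτ.2.1
  have hsurj := lift_surjective (coverMap cert hs) (coverMap_surj cert hs) τ hτ φ hφ
  have : Finite (coverMap (K := K) cert hs).ker :=
    Finite.of_injective (fun x => coverEquiv cert hs x.1) fun x y h => Subtype.ext ((coverEquiv cert hs).injective h)
  calc Nat.card τ.ker ≤ Nat.card (coverMap (K := K) cert hs).ker := by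
        refine Nat.card_le_card_of_surjective (fun x => ⟨φ x.1, ?_⟩) fun z => ?_
        · rw [MonoidHom.mem_ker]; exact (DFunLike.congr_fun hφ x.1).trans x.2
        · obtain ⟨x, hx⟩ := hsurj z.1
          refine ⟨⟨x, ?_⟩, Subtype.ext hx⟩
          rw [MonoidHom.mem_ker, ← DFunLike.congr_fun hφ x, MonoidHom.comp_apply, hx]
          exact z.2
    _ ≤ Nat.card (stMap (K := K) cert hs).ker := by
        refine Nat.card_le_card_of_injective (fun x => ⟨coverEquiv cert hs x.1, ?_⟩) fun x y h =>
          Subtype.ext ((coverEquiv cert hs).injective (congrArg Subtype.val h))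
        rw [hker]; exact (coverMap_eq_one_iff cert hs x.1).1 x.2
    _ = _ := hcardk

/-- A Chevalley group with trivial centre of the presented group, under the torus conditions. -/
theorem hasCyclic_group_one (hc : Cond C K) (hz : Subgroup.center (D.SteinbergGroup K) = ⊥) :
    HasCyclicSchurMultiplier ↥(D.group K) 1 :=
  hasCyclic_group_one_of cert hs (fun _ _ θ a b => exists_lift_group cert hc hs θ a b) hz

end

end Cfsg.Agent.Lib.ChevLift
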