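import Cfsg.Agent.Lib.ChevLift.Lift
import Cfsg.Agent.Lib.CurtisTits.Check

/-!
A Boolean check giving the conditions of the lifting, to be evaluated by the kernel for each tabulated type.
-/

set_option autoImplicit false
set_option linter.unusedSectionVars false

namespace Cfsg.Agent.Lib.ChevLift

open Cfsg.Lie
open Cfsg.Agent.Lib.ChevStructure
open Cfsg.Agent.Lib.CurtisTits

variable {D : ChevalleyDatum} (C : Core D)

/-- Coefficients of the cocharacters tried. -/
def cfs : List (ℤ × ℤ) :=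
  [(1, 0), (1, 1), (1, -1), (1, 2), (1, -2), (2, 1), (2, -1), (1, 3), (1, -3), (3, 1), (3, -1)]

/-- The exponents allowed: at most `e`. -/
def okExp (e : ℕ) (x : ℤ) : Bool := decide (x ≠ 0) && decide (x.natAbs ≤ e)

/-- A cocharacter separating two roots with a small exponent. -/
def sepB (e : ℕ) (r s : Rt D) : Bool :=
  (idxs D).any fun j₁ => (idxs D).any fun j₂ => cfs.any fun c =>
    (decide (c.1 * A D j₁ s + c.2 * A D j₂ s = 0) && okExp e (c.1 * A D j₁ r + c.2 * A D j₂ r)) ||
    (decide (c.1 * A D j₁ r + c.2 * A D j₂ r = 0) && okExp e (c.1 * A D j₁ s + c.2 * A D j₂ s))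

/-- The coordinate of a root on the first of two roots, times the Gram determinant. -/
def num (r s q : Rt D) : ℤ := 2 * pr D r q - pr D r s * pr D s q

/-- No root strictly between two roots. -/
def noBtwB (r s : Rt D) : Bool :=
  decide (pr D r s * pr D s r < 4) && (rts D).all fun q =>
    !(decide (0 < num r s q) && decide (0 < num s r q) && decide (num r s q % (4 - pr D r s * pr D s r) = 0) &&
      decide (num s r q % (4 - pr D r s * pr D s r) = 0) && (idxs D).all fun m =>
      decide ((4 - pr D r s * pr D s r) * C.v q m = num r s q * C.v r m + num s r q * C.v s m))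

/-- The data for the commuting of one root subgroup. -/
def selfB (r : Rt D) (i j : Fin D.rank) : Bool :=
  inB C i j r && (sub C i j).any fun p => (sub C i j).any fun q =>
    !decide (q = p) && !decide (q = p.rev) && !decide (p = r) && !decide (p = r.rev) &&
      !decide (q = r) && !decide (q = r.rev) && noBtwB C r p &&
      ((terms r q).all fun e => !decide (e.1 = p) && !decide (e.1 = p.rev) && noBtwB C p e.1) &&
      (List.range (terms p q).length).any fun n =>
        match (terms p q)[n]? with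
        | none => false
        | some e =>
          decide (e.1 = r) && (decide (e.2.1 = 1) || decide (e.2.1 = -1)) &&
            (decide (e.2.2.1 = 1) || decide (e.2.2.2 = 1)) &&
            ((terms p q).take n ++ (terms p q).drop (n + 1)).all fun x =>
              !decide (x.1 = r) && !decide (x.1 = r.rev) && noBtwB C r x.1

/-- The torus realises every scalar on the root. -/
def scalarB (r : Rt D) : Bool := (idxs D).any fun j => decide (A D j r = 1) || decide (A D j r = -1)

/-- All conditions; `scalar` allows the scalar argument. -/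
def condB (e : ℕ) (scalar : Bool) : Bool :=
  ((idxs D).all fun i => (idxs D).all fun j => (sub C i j).all fun r => (sub C i j).all fun s =>
    decide (s = r) || decide (s = r.rev) || (decide (pr D r s * pr D s r < 4) && sepB e r s)) &&
  (rts D).all fun r => !basB C r || ((idxs D).any fun i => (idxs D).any fun j => selfB C r i j) ||
    (scalar && scalarB r)

theorem mem_sub {i j : Fin D.rank} {r : Rt D} : r ∈ sub C i j ↔ InS C i j r := by
  simp [sub, mem_rts, inB_iff]

theorem noBtwB_sound {r s : Rt D} (h : noBtwB C r s = true) : ∀ q, ¬ Between C r s q := by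
  rintro q ⟨i, j, hi, hj, e⟩
  simp only [noBtwB, Bool.and_eq_true, List.all_eq_true, decide_eq_true_eq] at h
  have e1 : ∀ x : Rt D, pr D x q = i * pr D x r + j * pr D x s := fun x => by
    rw [← lin_pr C x q, e, lin_add, lin_smul, lin_smul, lin_pr C x r, lin_pr C x s]
  have h2 := h.2 q (mem_rts q)
  simp only [Bool.not_eq_true', Bool.and_eq_false_iff, decide_eq_false_iff_not] at h2
  have n1 : num r s q = (4 - pr D r s * pr D s r) * i := by rw [num, e1 r, e1 s, C.pr_self, C.pr_self]; ring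
  have n2 : num s r q = (4 - pr D r s * pr D s r) * j := by rw [num, e1 r, e1 s, C.pr_self, C.pr_self]; ring
  have hd : (0 : ℤ) < 4 - pr D r s * pr D s r := by omega
  rcases h2 with (((h2 | h2) | h2) | h2) | h2
  · exact h2 (n1 ▸ mul_pos hd (by omega))
  · exact h2 (n2 ▸ mul_pos hd (by omega))
  · exact h2 (by rw [n1, Int.mul_emod_right])
  · exact h2 (by rw [n2, Int.mul_emod_right])
  · rw [List.all_eq_false] at h2
    obtain ⟨m, -, hm⟩ := h2
    refine hm (decide_eq_true ?_)
    rw [n1, n2, e, Pi.add_apply, Pi.smul_apply, Pi.smul_apply, smul_eq_mul, smul_eq_mul]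
    ring

variable {K : Type*} [Field K]

theorem chA_two (j₁ j₂ : Fin D.rank) (a b : ℤ) (z : Kˣ) (r : Rt D) :
    C.chA (Pi.mulSingle j₁ (z ^ a) * Pi.mulSingle j₂ (z ^ b)) r = z ^ (a * A D j₁ r + b * A D j₂ r) := by
  rw [Core.chA, zpow_add, zpow_mul, zpow_mul]
  simp only [Pi.mul_apply, mul_zpow, Finset.prod_mul_distrib]
  congr 1 <;>
  · rw [Finset.prod_eq_single_of_mem _ (Finset.mem_univ _) fun x _ hx => by
      rw [Pi.mulSingle_eq_of_ne hx, one_zpow], Pi.mulSingle_eq_same]

theorem condB_sound {e : ℕ} {scalar : Bool} (h : condB C e scalar = true) (he : 2 ≤ e)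
    (hz : ∀ n : ℕ, 1 ≤ n → n ≤ e → ∃ z : Kˣ, z ^ n ≠ 1)
    (hk : scalar = true → ∃ k : K, k ≠ 0 ∧ k ≠ 1 ∧ k * (1 - k) ≠ 1) : Cond C K := by
  simp only [condB, Bool.and_eq_true, List.all_eq_true, Bool.or_eq_true, decide_eq_true_eq, mem_sub,
    List.any_eq_true, Bool.not_eq_true'] at h
  obtain ⟨h1, h2⟩ := h
  have hexp : ∀ x : ℤ, okExp e x = true → ∃ z : Kˣ, z ^ x ≠ 1 := by
    intro x hx
    simp only [okExp, Bool.and_eq_true, decide_eq_true_eq] at hx
    obtain ⟨z, hz'⟩ := hz x.natAbs (by omega) hx.2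
    refine ⟨z, fun e => hz' ?_⟩
    rcases Int.natAbs_eq x with h | h <;> rw [h] at e <;> simpa using e
  refine ⟨fun r => ?_, fun i j r s hr hs n1 n2 => ?_, fun i j r s hr hs n1 n2 => ?_, fun r hr => ?_⟩
  · obtain ⟨z, hz'⟩ := hz 2 (by norm_num) he
    refine ⟨fun j => z ^ co D r j, ?_⟩
    have e1 : C.chA (fun j => z ^ co D r j) r = z ^ (2 : ℤ) := by
      rw [Core.chA, ← C.pr_self r, pr, C.zpow_fsum]
      exact Finset.prod_congr rfl fun j _ => (zpow_mul z _ _).symm
    rw [e1]
    exact_mod_cast hz'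
  · exact ((h1 i (mem_idxs i) j (mem_idxs j) r hr s hs).resolve_left (by simp [n1, n2])).1
  · obtain ⟨-, hs'⟩ := (h1 i (mem_idxs i) j (mem_idxs j) r hr s hs).resolve_left (by simp [n1, n2])
    simp only [sepB, List.any_eq_true, Bool.or_eq_true, Bool.and_eq_true, decide_eq_true_eq] at hs'
    obtain ⟨j₁, -, j₂, -, c, -, ⟨e0, e1⟩ | ⟨e0, e1⟩⟩ := hs'
    · obtain ⟨z, hz'⟩ := hexp _ e1
      exact Or.inl ⟨Pi.mulSingle j₁ (z ^ c.1) * Pi.mulSingle j₂ (z ^ c.2), by rwa [chA_two],
        by rw [chA_two, e0, zpow_zero]⟩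
    · obtain ⟨z, hz'⟩ := hexp _ e1
      exact Or.inr ⟨Pi.mulSingle j₁ (z ^ c.1) * Pi.mulSingle j₂ (z ^ c.2), by rw [chA_two, e0, zpow_zero],
        by rwa [chA_two]⟩
  · rcases h2 r (mem_rts r) with (hb | ⟨i, -, j, -, hd⟩) | ⟨hsc, hA⟩
    · rw [(basB_iff C r).2 hr] at hb; exact absurd hb (by simp)
    · simp only [selfB, Bool.and_eq_true, List.any_eq_true, List.all_eq_true, Bool.not_eq_true',
        decide_eq_false_iff_not, mem_sub, inB_iff, List.mem_range] at hd
      obtain ⟨hri, p, hp, q, hq, ⟨⟨⟨⟨⟨⟨⟨a1, a2⟩, a3⟩, a4⟩, a5⟩, a6⟩, a7⟩, a8⟩, n, hn, hm⟩ := hd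
      rw [List.getElem?_eq_getElem hn] at hm
      simp only [Bool.and_eq_true, Bool.or_eq_true, decide_eq_true_eq, List.all_eq_true, Bool.not_eq_true',
        decide_eq_false_iff_not] at hm
      obtain ⟨⟨⟨m1, m2⟩, m3⟩, m4⟩ := hm
      generalize hx : (terms p q)[n] = x at m1 m2 m3
      obtain ⟨w, cc, a, b⟩ := x
      simp only at m1 m2 m3
      subst m1
      refine Or.inl ⟨i, j, p, q, (terms p q).take n, (terms p q).drop (n + 1), cc, a, b, hri, hp, hq, a1, a2, a3,
        a4, a5, a6, noBtwB_sound C a7, fun e he => ⟨(a8 e he).1.1, (a8 e he).1.2, noBtwB_sound C (a8 e he).2⟩,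
        ?_, m2, m3, fun e he => ⟨(m4 e he).1.1, (m4 e he).1.2, noBtwB_sound C (m4 e he).2⟩⟩
      rw [← hx, List.getElem_cons_drop, List.take_append_drop]
    · refine Or.inr ⟨fun z => ?_, hk hsc⟩
      simp only [scalarB, List.any_eq_true, Bool.or_eq_true, decide_eq_true_eq] at hA
      obtain ⟨j, -, hj | hj⟩ := hA
      · refine ⟨Pi.mulSingle j (z ^ (1 : ℤ)) * Pi.mulSingle j (z ^ (0 : ℤ)), ?_⟩
        rw [chA_two, hj]; simp
      · refine ⟨Pi.mulSingle j (z ^ (-1 : ℤ)) * Pi.mulSingle j (z ^ (0 : ℤ)), ?_⟩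
        rw [chA_two, hj]; simp

end Cfsg.Agent.Lib.ChevLift
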