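import Cfsg.Agent.Lib.CurtisTits.Terms
import Cfsg.Agent.Lib.ChevStructure.Unipotent

/-!
Positive combinations of two roots: the separating functional and the grading it gives.
-/

set_option autoImplicit false
set_option linter.unusedSectionVars false

namespace Cfsg.Agent.Lib.ChevLift

open Cfsg.Lie
open Cfsg.Agent.Lib.ChevStructure
open Cfsg.Agent.Lib.CurtisTits
open scoped MatrixGroups Matrix

variable {D : ChevalleyDatum}

/-- `q` is a combination of `r` and `s` with both coefficients positive. -/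
def Between (C : Core D) (r s q : Rt D) : Prop :=
  ∃ i j : ℕ, 1 ≤ i ∧ 1 ≤ j ∧ C.v q = (i : ℤ) • C.v r + (j : ℤ) • C.v s

/-- The roots strictly between `r` and `s`. -/
noncomputable def btw (C : Core D) (r s : Rt D) : Finset (Rt D) := by
  classical exact Finset.univ.filter (Between C r s)

theorem mem_btw {C : Core D} {r s q : Rt D} : q ∈ btw C r s ↔ Between C r s q := by
  classical simp [btw]

/-- The linear extension of a function on the fundamental roots. -/
def lin {l : ℕ} (μ : Fin l → ℤ) (w : Fin l → ℤ) : ℤ := ∑ m, w m * μ m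

theorem lin_add {l : ℕ} (μ a b : Fin l → ℤ) : lin μ (a + b) = lin μ a + lin μ b := by
  simp [lin, add_mul, Finset.sum_add_distrib]

theorem lin_smul {l : ℕ} (μ : Fin l → ℤ) (c : ℤ) (a : Fin l → ℤ) : lin μ (c • a) = c * lin μ a := by
  simp [lin, Finset.mul_sum, mul_assoc]

theorem lin_neg {l : ℕ} (μ a : Fin l → ℤ) : lin μ (-a) = - lin μ a := by
  simp [lin, Finset.sum_neg_distrib]

theorem between_comm {C : Core D} {r s q : Rt D} (h : Between C r s q) : Between C s r q := by
  obtain ⟨i, j, hi, hj, e⟩ := h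
  exact ⟨j, i, hj, hi, by rw [e, add_comm]⟩

theorem between_right {C : Core D} {r s q x : Rt D} (hq : Between C r s q) (hx : Between C r q x) :
    Between C r s x := by
  obtain ⟨a, b, ha, hb, e⟩ := hq
  obtain ⟨i, j, hi, hj, e'⟩ := hx
  refine ⟨i + j * a, j * b, by omega, one_le_mul hj hb, ?_⟩
  rw [e', e]
  push_cast
  module

theorem between_left {C : Core D} {r s q x : Rt D} (hq : Between C r s q) (hx : Between C s q x) :
    Between C r s x := between_comm (between_right (between_comm hq) hx)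

theorem between_both {C : Core D} {r s q q' x : Rt D} (hq : Between C r s q) (hq' : Between C r s q')
    (hx : Between C q q' x) : Between C r s x := by
  obtain ⟨a, b, ha, hb, e⟩ := hq
  obtain ⟨a', b', ha', hb', e'⟩ := hq'
  obtain ⟨i, j, hi, hj, e''⟩ := hx
  refine ⟨i * a + j * a', i * b + j * b', ?_, ?_, ?_⟩
  · have := one_le_mul hi ha; omega
  · have := one_le_mul hi hb; omega
  · rw [e'', e, e']
    push_cast
    module

theorem terms_between {C : Core D} (H : CommOK C) {r s : Rt D} (hrs : s ≠ r) (h : s ≠ r.rev) {e : Term D}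
    (he : e ∈ terms r s) : Between C r s e.1 :=
  ⟨_, _, (terms_weight H hrs h he).1, (terms_weight H hrs h he).2.1, (terms_weight H hrs h he).2.2⟩

theorem terms_nil {C : Core D} (H : CommOK C) {r s : Rt D} (hrs : s ≠ r) (h : s ≠ r.rev)
    (hb : ∀ q, ¬ Between C r s q) : terms r s = [] :=
  List.eq_nil_iff_forall_not_mem.2 fun _ he => hb _ (terms_between H hrs h he)

theorem X_commute {C : Core D} (H : CommOK C) {K : Type*} [Field K] {r s : Rt D}
    (hrs : s ≠ r) (h : s ≠ r.rev) (hb : ∀ q, ¬ Between C r s q) (t u : K) :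
    Commute (C.X K r t) (C.X K s u) := by
  have e := X_comm C H r s hrs h t u
  rw [terms_nil H hrs h hb, evalT, List.map_nil, List.prod_nil] at e
  calc C.X K r t * C.X K s u
      = C.X K r t * C.X K s u * ((C.X K s u)⁻¹ * (C.X K r t)⁻¹ * C.X K s u * C.X K r t) := by rw [e, mul_one]
    _ = C.X K s u * C.X K r t := by group

variable (C : Core D)

theorem lin_pr (r q : Rt D) : lin (fun m => pr D r (C.p m)) (C.v q) = pr D r q := (C.pr_lin r q).symm

/-- Two roots with Gram determinant positive are separated by a linear functional taking given values. -/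
theorem exists_lin {r s : Rt D} (hd : pr D r s * pr D s r < 4) (M N : ℤ) :
    ∃ μ : Fin D.rank → ℤ, ∃ d : ℤ, 0 < d ∧ lin μ (C.v r) = d * M ∧ lin μ (C.v s) = d * N := by
  refine ⟨fun m => (2 * M - pr D s r * N) * pr D r (C.p m) + (2 * N - pr D r s * M) * pr D s (C.p m),
    4 - pr D r s * pr D s r, by omega, ?_, ?_⟩
  all_goals
    have e : ∀ q : Rt D, lin (fun m => (2 * M - pr D s r * N) * pr D r (C.p m) +
        (2 * N - pr D r s * M) * pr D s (C.p m)) (C.v q) =
        (2 * M - pr D s r * N) * pr D r q + (2 * N - pr D r s * M) * pr D s q := by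
      intro q
      rw [C.pr_lin r q, C.pr_lin s q, Finset.mul_sum, Finset.mul_sum, ← Finset.sum_add_distrib, lin]
      exact Finset.sum_congr rfl fun m _ => by ring
    rw [e, C.pr_self]
    ring

/-- Gram determinant positive excludes combinations with a root equal or opposite to one of the two. -/
theorem between_ne {r s q : Rt D} (hd : pr D r s * pr D s r < 4) (hq : Between C r s q) :
    q ≠ r ∧ q ≠ r.rev ∧ q ≠ s ∧ q ≠ s.rev := by
  obtain ⟨i, j, hi, hj, e⟩ := hq
  obtain ⟨μ, d, hd0, hr, hs⟩ := exists_lin C hd 1 0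
  obtain ⟨ν, d', hd0', hr', hs'⟩ := exists_lin C hd 0 1
  have h1 : lin μ (C.v q) = d * i := by rw [e, lin_add, lin_smul, lin_smul, hr, hs]; ring
  have h2 : lin ν (C.v q) = d' * j := by rw [e, lin_add, lin_smul, lin_smul, hr', hs']; ring
  have hi' : 0 < d * (i : ℤ) := mul_pos hd0 (by omega)
  have hj' : 0 < d' * (j : ℤ) := mul_pos hd0' (by omega)
  refine ⟨?_, ?_, ?_, ?_⟩ <;> rintro rfl
  · rw [hr'] at h2; omega
  · rw [C.v_rev, lin_neg, hr'] at h2; omega
  · rw [hs] at h1; omega
  · rw [C.v_rev, lin_neg, hs] at h1; omega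

/-- A functional injective and positive on the roots between `r` and `s`. -/
theorem exists_grading {r s : Rt D} (hd : pr D r s * pr D s r < 4) :
    ∃ μ : Fin D.rank → ℤ, (∀ q, Between C r s q → 0 < lin μ (C.v q)) ∧
      ∀ q q', Between C r s q → Between C r s q' → lin μ (C.v q) = lin μ (C.v q') → q = q' := by
  classical
  let J : Rt D → ℕ := fun q => if h : Between C r s q then h.choose_spec.choose else 0
  obtain ⟨μ, d, hd0, hr, hs⟩ := exists_lin C hd ((Finset.univ.sup J : ℕ) + 1) 1
  have key : ∀ q (h : Between C r s q), 1 ≤ h.choose ∧ 1 ≤ J q ∧ J q ≤ Finset.univ.sup J ∧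
      C.v q = (h.choose : ℤ) • C.v r + (J q : ℤ) • C.v s ∧
      lin μ (C.v q) = d * ((h.choose : ℤ) * (((Finset.univ.sup J : ℕ) : ℤ) + 1) + J q) := by
    intro q h
    obtain ⟨h1, h2, h3⟩ := h.choose_spec.choose_spec
    have hJ : J q = h.choose_spec.choose := dif_pos h
    rw [← hJ] at h2 h3
    refine ⟨h1, h2, Finset.le_sup (Finset.mem_univ q), h3, ?_⟩
    exact (congrArg (lin μ) h3).trans (by rw [lin_add, lin_smul, lin_smul, hr, hs]; ring)
  refine ⟨μ, fun q h => ?_, fun q q' h h' e => ?_⟩
  · obtain ⟨a, b, -, -, e⟩ := key q h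
    rw [e]
    refine mul_pos hd0 ?_
    have : (0 : ℤ) ≤ (h.choose : ℤ) * (((Finset.univ.sup J : ℕ) : ℤ) + 1) := by positivity
    omega
  · obtain ⟨-, -, c, ev, el⟩ := key q h
    obtain ⟨-, -, c', ev', el'⟩ := key q' h'
    rw [el, el'] at e
    have e2 := mul_left_cancel₀ hd0.ne' e
    have e3 : J q = J q' := by
      have := congrArg (· % (((Finset.univ.sup J : ℕ) : ℤ) + 1)) e2
      simp only [Int.mul_add_emod_self_right] at this
      rw [Int.emod_eq_of_lt (by omega) (by omega), Int.emod_eq_of_lt (by omega) (by omega)] at this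
      exact_mod_cast this
    rw [e3] at e2
    have e4 : (h.choose : ℤ) = h'.choose := mul_right_cancel₀ (by omega) (add_right_cancel e2)
    exact C.v_inj (by rw [ev, ev', e3, e4])

theorem btw_card_lt {r s q a : Rt D} (hq : Between C r s q) (hb : ∀ x, Between C a q x → Between C r s x)
    (hne : ∀ x, Between C a q x → x ≠ q) : (btw C a q).card < (btw C r s).card := by
  refine Finset.card_lt_card (Finset.ssubset_iff_of_subset (fun x hx => mem_btw.2 (hb x (mem_btw.1 hx)))|>.2 ?_)
  exact ⟨q, mem_btw.2 hq, fun h => hne q (mem_btw.1 h) rfl⟩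

/-- The entry that separates a root element from those of higher grade. -/
theorem eq_zero_of_mem_upperU {K : Type*} [Field K] (μ : Fin D.rank → ℤ) {q : Rt D}
    (hq : 0 ≤ lin μ (C.v q)) {t : K}
    (h : C.X K q t ∈ upperU K (fun a => lin μ (C.wt a)) (lin μ (C.v q)) hq) : t = 0 := by
  refine C.eq_zero_of_co_mul K (k := q) fun j => ?_
  by_contra hne
  have h1 := h.1 (Sum.inl j) (Sum.inr q.rev) (by
    simpa [xI, Finset.sum_range_succ, Matrix.sum_apply, Ek, E, Matrix.one_apply, mul_comm] using hne)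
  simp only [Core.wt, C.v_rev, lin_neg] at h1
  rw [show lin μ (0 : Fin D.rank → ℤ) = 0 by simp [lin]] at h1
  omega

theorem X_mem_upperU {K : Type*} [Field K] (μ : Fin D.rank → ℤ) {c : ℤ} (hc : 0 ≤ c) {q : Rt D}
    (h : c < lin μ (C.v q)) (t : K) : C.X K q t ∈ upperU K (fun a => lin μ (C.wt a)) c hc := by
  have key : ∀ t : K, Above (fun a => lin μ (C.wt a)) c (xI D K q t - 1) := by
    intro t
    have e : xI D K q t - 1 = ∑ k ∈ Finset.range 3, t ^ (k + 1) • Ek D K (k + 1) q := by
      rw [xI, Finset.sum_range_succ' _ 3, C.Ek_zero]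
      simp
    rw [e]
    intro a b hab
    rw [Matrix.sum_apply] at hab
    obtain ⟨k, -, hk⟩ := Finset.exists_ne_zero_of_sum_ne_zero hab
    have hE : E D (k + 1) q a b ≠ 0 := fun h0 => hk (by simp [Ek, h0])
    show lin μ (C.wt b) + c < lin μ (C.wt a)
    rw [C.E_weight (k + 1) q a b hE, lin_add, lin_smul]
    have : lin μ (C.v q) ≤ ((k + 1 : ℕ) : ℤ) * lin μ (C.v q) :=
      le_mul_of_one_le_left (by omega) (by push_cast; omega)
    omega
  exact ⟨key t, by rw [C.X_inv]; exact key (-t)⟩

end Cfsg.Agent.Lib.ChevLift
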