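import Cfsg.Agent.Lib.ChevLift.Combos
import Cfsg.Agent.Lib.ChevStructure.Torus
import Cfsg.Agent.Lib.Schur.Fusion

/-!
Steinberg's relations lift through central extensions of a Chevalley group.

The lifts `y_r(t)` of the root elements are canonical: they are permuted by the torus, and additive.  For a
lift `H` of a torus element moving `x_r`, the element `⁅H, x_r'(t / (c - 1))⁆` is of this kind.  By induction on the set of roots between `r` and `s` the commutator defect is
bilinear and invariant under the torus, hence trivial when a torus element separates `r` from `s`.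
-/

set_option autoImplicit false
set_option linter.unusedSectionVars false

namespace Cfsg.Agent.Lib.ChevLift

open Cfsg.Lie
open Cfsg.Agent.Lib.ChevStructure
open Cfsg.Agent.Lib.CurtisTits
open Cfsg.Agent.Lib.Schur.Fusion (commutator_congr central_of_commute commutator_conj)
open scoped MatrixGroups Matrix commutatorElement

variable {D : ChevalleyDatum} {K : Type*} [Field K] {E : Type*} [Group E]

/-- Chosen lifts of root elements and torus elements in a central extension. -/
structure Lifts (C : Core D) (π : E →* GL D.Idx K) where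
  ker_le : π.ker ≤ Subgroup.center E
  a : Rt D → K → E
  spec_a : ∀ r t, π (a r t) = C.X K r t
  tor : (Fin D.rank → Kˣ) → E
  spec_tor : ∀ c, π (tor c) = C.HT K c
  /-- The canonical lift of a root element. -/
  y : Rt D → K → E
  spec_y : ∀ r t, π (y r t) = C.X K r t
  tor_conj_y : ∀ (c : Fin D.rank → Kˣ) r t, tor c * y r t * (tor c)⁻¹ = y r ((C.chA c r : K) * t)
  y_zero : ∀ r, y r 0 = 1
  y_add : ∀ {r}, (∀ t u, Commute (a r t) (a r u)) → ∀ t u, y r t * y r u = y r (t + u)

/-- The commutator lift of a root element moved by a torus element. -/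
def yTor (C : Core D) (a : Rt D → K → E) (tor : (Fin D.rank → Kˣ) → E) (c : Rt D → Fin D.rank → Kˣ) (r : Rt D)
    (t : K) : E :=
  ⁅tor (c r), a r (t / ((C.chA (c r) r : K) - 1))⁆

section OfMove

variable {C : Core D} {π : E →* GL D.Idx K} (hk : π.ker ≤ Subgroup.center E) {a : Rt D → K → E}
  (ha : ∀ r t, π (a r t) = C.X K r t) {tor : (Fin D.rank → Kˣ) → E} (htor : ∀ c, π (tor c) = C.HT K c)
  {c : Rt D → Fin D.rank → Kˣ}
include hk ha htor

omit hk in
theorem yTor_spec {r : Rt D} (hc : C.chA (c r) r ≠ 1) (t : K) : π (yTor C a tor c r t) = C.X K r t := by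
  have hne : (C.chA (c r) r : K) - 1 ≠ 0 := sub_ne_zero.2 fun h => hc (Units.ext h)
  rw [yTor, map_commutatorElement, htor, ha, commutatorElement_def, C.HT_X_conj, C.X_inv, C.X_add]
  congr 1
  field_simp
  ring

theorem yTor_conj (d : Fin D.rank → Kˣ) (r : Rt D) (t : K) :
    tor d * yTor C a tor c r t * (tor d)⁻¹ = yTor C a tor c r ((C.chA d r : K) * t) := by
  rw [yTor, conjugate_commutatorElement]
  refine commutator_congr hk ?_ ?_
  · rw [map_mul, map_mul, map_inv, htor, htor, C.HT_mul, mul_comm d, ← C.HT_mul,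
      mul_inv_cancel_right]
  · rw [map_mul, map_mul, map_inv, htor, ha, ha, C.HT_X_conj]
    congr 1
    ring

omit htor in
theorem yTor_zero (r : Rt D) : yTor C a tor c r 0 = 1 := by
  rw [yTor, commutator_congr hk rfl (show π (a r (0 / ((C.chA (c r) r : K) - 1))) = π 1 by
    rw [ha, zero_div, C.X_zero, map_one]), commutatorElement_one_right]

theorem yTor_add {r : Rt D} (hc : C.chA (c r) r ≠ 1) (h : ∀ t u, Commute (a r t) (a r u)) (t u : K) :
    yTor C a tor c r t * yTor C a tor c r u = yTor C a tor c r (t + u) := by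
  have hc' : Commute (a r (t / ((C.chA (c r) r : K) - 1))) (yTor C a tor c r u) :=
    commutatorElement_eq_one_iff_commute.1 ((commutator_congr hk rfl
      (show π (a r u) = π (yTor C a tor c r u) by rw [ha, yTor_spec ha htor hc])).symm.trans
      (commutatorElement_eq_one_iff_commute.2 (h _ u)))
  symm
  rw [yTor, add_div, commutator_congr hk rfl (show π (a r (t / ((C.chA (c r) r : K) - 1) +
      u / ((C.chA (c r) r : K) - 1))) = π (a r (t / ((C.chA (c r) r : K) - 1)) *
      a r (u / ((C.chA (c r) r : K) - 1))) by rw [map_mul, ha, ha, ha, C.X_add]),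
    commutatorElement_mul_right_eq_mul_conj]
  show yTor C a tor c r t * a r _ * yTor C a tor c r u * _ = _
  rw [mul_assoc (yTor C a tor c r t), hc'.eq, mul_assoc, mul_assoc, mul_inv_cancel, mul_one]

/-- The lifts when every root is moved by the torus. -/
def Lifts.ofMove (hc : ∀ r, C.chA (c r) r ≠ 1) : Lifts C π where
  ker_le := hk
  a := a
  spec_a := ha
  tor := tor
  spec_tor := htor
  y := yTor C a tor c
  spec_y r := yTor_spec ha htor (hc r)
  tor_conj_y := yTor_conj hk ha htor
  y_zero := yTor_zero hk ha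
  y_add {r} h := yTor_add hk ha htor (hc r) h

end OfMove

variable {C : Core D} {π : E →* GL D.Idx K} (L : Lifts C π)

namespace Lifts

theorem congr_a (r : Rt D) (t : K) : π (L.a r t) = π (L.y r t) := by rw [L.spec_a, L.spec_y]

include L in
theorem commute_congr {u u' w w' : E} (hu : π u = π u') (hw : π w = π w') (h : Commute u w) :
    Commute u' w' :=
  commutatorElement_eq_one_iff_commute.1 ((commutator_congr L.ker_le hu hw).symm.trans
    (commutatorElement_eq_one_iff_commute.2 h))

include L in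
theorem ker_central {z : E} (hz : π z = 1) (g : E) : z * g = g * z :=
  ((Subgroup.mem_center_iff.1 (L.ker_le (MonoidHom.mem_ker.2 hz))) g).symm

theorem y_inv {r : Rt D} (h : ∀ t u, Commute (L.a r t) (L.a r u)) (t : K) :
    (L.y r t)⁻¹ = L.y r (-t) := by
  rw [inv_eq_iff_mul_eq_one, L.y_add h, add_neg_cancel, L.y_zero]

/-- The commutator relation for the canonical lifts. -/
def Rel (r s : Rt D) : Prop :=
  ∀ t u : K, (L.y s u)⁻¹ * (L.y r t)⁻¹ * L.y s u * L.y r t = evalT L.y t u (terms r s)

theorem spec_evalT (t u : K) (l : List (Term D)) : π (evalT L.y t u l) = evalT (C.X K) t u l := by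
  rw [evalT_map]
  exact evalT_congr t u fun e _ c => L.spec_y e.1 c

/-- The subgroup generated by the canonical lifts of a set of roots. -/
def gp (T : Set (Rt D)) : Subgroup E := Subgroup.closure {g | ∃ q ∈ T, ∃ t : K, g = L.y q t}

theorem y_mem {T : Set (Rt D)} {q : Rt D} (h : q ∈ T) (t : K) : L.y q t ∈ L.gp T :=
  Subgroup.subset_closure ⟨q, h, t, rfl⟩

theorem evalT_mem {T : Set (Rt D)} (t u : K) {l : List (Term D)} (h : ∀ e ∈ l, e.1 ∈ T) :
    evalT L.y t u l ∈ L.gp T := by
  refine list_prod_mem fun g hg => ?_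
  rw [List.mem_map] at hg
  obtain ⟨e, he, rfl⟩ := hg
  exact L.y_mem (h e he) _

theorem tor_conj_evalT (c : Fin D.rank → Kˣ) {r s : Rt D} (H : CommOK C) (hrs : s ≠ r) (hne : s ≠ r.rev)
    (t u : K) :
    L.tor c * evalT L.y t u (terms r s) * (L.tor c)⁻¹ =
      evalT L.y ((C.chA c r : K) * t) ((C.chA c s : K) * u) (terms r s) := by
  have key : ∀ l : List (Term D), (∀ e ∈ l, e ∈ terms r s) →
      L.tor c * evalT L.y t u l * (L.tor c)⁻¹ =
        evalT L.y ((C.chA c r : K) * t) ((C.chA c s : K) * u) l := by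
    intro l hl
    induction l with
    | nil => simp [evalT]
    | cons e l ih =>
      have hw := (terms_weight H hrs hne (hl e List.mem_cons_self)).2.2
      have hch : (C.chA c e.1 : K) = (C.chA c r : K) ^ e.2.2.1 * (C.chA c s : K) ^ e.2.2.2 := by
        rw [← Units.val_pow_eq_pow_val, ← Units.val_pow_eq_pow_val, ← Units.val_mul]
        congr 1
        rw [← C.chr_chA K c e.1, ← C.chr_chA K c r, ← C.chr_chA K c s, Core.chr, Core.chr, Core.chr,
          ← Finset.prod_pow, ← Finset.prod_pow, ← Finset.prod_mul_distrib]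
        refine Finset.prod_congr rfl fun m _ => ?_
        rw [hw, Pi.add_apply, Pi.smul_apply, Pi.smul_apply, zpow_add, ← zpow_natCast, ← zpow_natCast,
          ← zpow_mul, ← zpow_mul, smul_eq_mul, smul_eq_mul, mul_comm (C.v r m), mul_comm (C.v s m)]
      simp only [evalT, List.map_cons, List.prod_cons]
      have ih' := ih fun x hx => hl x (List.mem_cons_of_mem _ hx)
      simp only [evalT] at ih'
      rw [← ih', show (e.2.1 : K) * (-((C.chA c r : K) * t)) ^ e.2.2.1 * ((C.chA c s : K) * u) ^ e.2.2.2 =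
        (C.chA c e.1 : K) * ((e.2.1 : K) * (-t) ^ e.2.2.1 * u ^ e.2.2.2) by
          rw [hch, ← mul_neg, mul_pow, mul_pow]; ring, ← L.tor_conj_y]
      group
  exact key _ fun e he => he

end Lifts

/-- What is required of a set of roots closed under positive combinations. -/
structure Local (L : Lifts C π) (S : Set (Rt D)) : Prop where
  closed : ∀ r ∈ S, ∀ s ∈ S, ∀ q, Between C r s q → q ∈ S
  gram : ∀ r ∈ S, ∀ s ∈ S, s ≠ r → s ≠ r.rev → pr D r s * pr D s r < 4
  sep : ∀ r ∈ S, ∀ s ∈ S, s ≠ r → s ≠ r.rev →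
    (∃ c, C.chA c r ≠ (1 : Kˣ) ∧ C.chA c s = 1) ∨ (∃ c, C.chA c r = 1 ∧ C.chA c s ≠ (1 : Kˣ)) ∨
      ((∀ q, ¬ Between C r s q) ∧ ∀ t u, Commute (L.a r t) (L.a s u)) ∨ ((∃ q, Between C r s q) ∧ L.Rel r s)

namespace Lifts

variable (H : CommOK C) {S : Set (Rt D)} (hS : Local L S)
include H hS

/-- The lifts of commuting root elements commute. -/
theorem commute_of_sep {r s : Rt D} (hr : r ∈ S) (hs : s ∈ S) (hrs : s ≠ r) (hne : s ≠ r.rev)
    (hb : ∀ q, ¬ Between C r s q) (t u : K) : Commute (L.a r t) (L.a s u) := by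
  have hk := L.ker_le
  have hcom : ∀ t u, Commute (π (L.a r t)) (π (L.a s u)) := fun t u => by
    rw [L.spec_a, L.spec_a]; exact X_commute H hrs hne hb t u
  have hinv : ∀ (c : Fin D.rank → Kˣ) t u,
      ⁅L.a r ((C.chA c r : K) * t), L.a s ((C.chA c s : K) * u)⁆ = ⁅L.a r t, L.a s u⁆ := fun c t u =>
    commutator_conj hk (n := L.tor c) (hcom t u) (by rw [L.spec_a, L.spec_a, L.spec_tor, C.HT_X_conj])
      (by rw [L.spec_a, L.spec_a, L.spec_tor, C.HT_X_conj])
  have hadd1 : ∀ t t' u, ⁅L.a r (t + t'), L.a s u⁆ = ⁅L.a r t', L.a s u⁆ * ⁅L.a r t, L.a s u⁆ := by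
    intro t t' u
    rw [commutator_congr hk (show π (L.a r (t + t')) = π (L.a r t * L.a r t') by
        rw [map_mul, L.spec_a, L.spec_a, L.spec_a, C.X_add]) rfl,
      commutatorElement_mul_left_eq_conj_mul,
      Subgroup.mem_center_iff.1 (central_of_commute hk (hcom t' u)) (L.a r t), mul_inv_cancel_right]
  have hadd2 : ∀ t u u', ⁅L.a r t, L.a s (u + u')⁆ = ⁅L.a r t, L.a s u⁆ * ⁅L.a r t, L.a s u'⁆ := by
    intro t u u'
    rw [commutator_congr hk rfl (show π (L.a s (u + u')) = π (L.a s u * L.a s u') by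
        rw [map_mul, L.spec_a, L.spec_a, L.spec_a, C.X_add]),
      Lib.Schur.Fusion.commutator_mul_right hk (hcom t u')]
  apply commutatorElement_eq_one_iff_commute.1
  rcases hS.sep r hr s hs hrs hne with ⟨c, h1, h2⟩ | ⟨c, h1, h2⟩ | ⟨h1, h2⟩ | ⟨h1, h2⟩
  · have hα : (C.chA c r : K) - 1 ≠ 0 := sub_ne_zero.2 fun h => h1 (Units.ext h)
    have key := hadd1 (((C.chA c r : K) - 1) * (t / ((C.chA c r : K) - 1))) (t / ((C.chA c r : K) - 1)) u
    have e := hinv c (t / ((C.chA c r : K) - 1)) u
    rw [h2, Units.val_one, one_mul] at e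
    rw [show ((C.chA c r : K) - 1) * (t / ((C.chA c r : K) - 1)) + t / ((C.chA c r : K) - 1) =
      (C.chA c r : K) * (t / ((C.chA c r : K) - 1)) by ring, e, mul_div_cancel₀ _ hα, left_eq_mul] at key
    exact key
  · have hα : (C.chA c s : K) - 1 ≠ 0 := sub_ne_zero.2 fun h => h2 (Units.ext h)
    have key := hadd2 t (((C.chA c s : K) - 1) * (u / ((C.chA c s : K) - 1))) (u / ((C.chA c s : K) - 1))
    have e := hinv c t (u / ((C.chA c s : K) - 1))
    rw [h1, Units.val_one, one_mul] at e
    rw [show ((C.chA c s : K) - 1) * (u / ((C.chA c s : K) - 1)) + u / ((C.chA c s : K) - 1) =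
      (C.chA c s : K) * (u / ((C.chA c s : K) - 1)) by ring, e, mul_div_cancel₀ _ hα, right_eq_mul] at key
    exact key
  · exact commutatorElement_eq_one_iff_commute.2 (h2 t u)
  · exact absurd h1 (fun ⟨q, hq⟩ => hb q hq)

variable (hself : ∀ r ∈ S, ∀ t u, Commute (L.a r t) (L.a r u))
include hself

omit H hS in
theorem conj_of_rel {r s : Rt D} (hr : r ∈ S) (h : L.Rel r s) (t u : K) :
    L.y r t * L.y s u * (L.y r t)⁻¹ = L.y s u * evalT L.y (-t) u (terms r s) := by
  have e := h (-t) u
  rw [← L.y_inv (hself r hr) t, inv_inv] at e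
  rw [← e]
  group

/-- The lifts of the roots between two roots inject. -/
theorem gp_inter_ker {r s : Rt D} (hr : r ∈ S) (hs : s ∈ S) (hrs : s ≠ r) (hne : s ≠ r.rev)
    (IH : ∀ a ∈ S, ∀ b ∈ S, b ≠ a → b ≠ a.rev → (btw C a b).card < (btw C r s).card → L.Rel a b)
    {g : E} (hg : g ∈ L.gp {q | Between C r s q}) (h1 : π g = 1) : g = 1 := by
  classical
  obtain ⟨μ, hpos, hinj⟩ := exists_grading C (hS.gram r hr s hs hrs hne)
  suffices main : ∀ U : Finset (Rt D), (∀ q ∈ U, Between C r s q) →
      (∀ q ∈ U, ∀ q', Between C r s q' → lin μ (C.v q) < lin μ (C.v q') → q' ∈ U) →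
      ∀ g ∈ L.gp (U : Set (Rt D)), π g = 1 → g = 1 by
    refine main (btw C r s) (fun q hq => mem_btw.1 hq) (fun _ _ q' h' _ => mem_btw.2 h') g ?_ h1
    have e : ((btw C r s : Finset (Rt D)) : Set (Rt D)) = {q | Between C r s q} :=
      Set.ext fun x => mem_btw
    rwa [e]
  intro U
  induction U using Finset.strongInduction with
  | _ U ih =>
    intro hU hup g hg hg1
    rcases U.eq_empty_or_nonempty with rfl | hne0
    · have : g ∈ (⊥ : Subgroup E) := by
        refine (Subgroup.closure_le _).2 ?_ hg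
        rintro x ⟨q, hq, -⟩
        simp at hq
      simpa using this
    obtain ⟨q₀, hq₀, hmin⟩ := U.exists_min_image (fun q => lin μ (C.v q)) hne0
    have hb₀ := hU q₀ hq₀
    set U' := U.erase q₀ with hU'
    have hlt : ∀ q ∈ U', lin μ (C.v q₀) < lin μ (C.v q) := fun q hq => by
      obtain ⟨hne1, hq1⟩ := Finset.mem_erase.1 hq
      exact lt_of_le_of_ne (hmin q hq1) fun e => hne1 (hinj q₀ q hb₀ (hU q hq1) e).symm
    have hup' : ∀ q ∈ U', ∀ q', Between C r s q' → lin μ (C.v q) < lin μ (C.v q') → q' ∈ U' := by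
      intro q hq q' h' hl
      refine Finset.mem_erase.2 ⟨fun e => ?_, hup q (Finset.mem_of_mem_erase hq) q' h' hl⟩
      rw [e] at hl
      exact absurd hl (not_lt.2 (hlt q hq).le)
    have conj : ∀ (b : K) (w : E), w ∈ L.gp (U' : Set (Rt D)) →
        L.y q₀ b * w * (L.y q₀ b)⁻¹ ∈ L.gp (U' : Set (Rt D)) := by
      intro b w hw
      induction hw using Subgroup.closure_induction with
      | mem x hx =>
        obtain ⟨q, hq, c, rfl⟩ := hx
        have hbq := hU q (Finset.mem_of_mem_erase hq)
        have hne1 : q ≠ q₀ := Finset.ne_of_mem_erase hq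
        have hne2 : q ≠ q₀.rev := fun e => by
          have h2 := hpos q hbq
          rw [e, C.v_rev, lin_neg] at h2
          have := hpos q₀ hb₀
          omega
        have hS₀ := hS.closed r hr s hs q₀ hb₀
        have hSq := hS.closed r hr s hs q hbq
        have hbig : ∀ x, Between C q₀ q x → lin μ (C.v q) < lin μ (C.v x) := by
          intro x ⟨i, j, hi, hj, ex⟩
          rw [ex, lin_add, lin_smul, lin_smul]
          have := hpos q₀ hb₀
          have := hpos q hbq
          have : (0 : ℤ) < (i : ℤ) * lin μ (C.v q₀) := mul_pos (by omega) (by omega)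
          have : lin μ (C.v q) ≤ (j : ℤ) * lin μ (C.v q) := le_mul_of_one_le_left (by omega) (by omega)
          omega
        have hrel : L.Rel q₀ q := IH q₀ hS₀ q hSq hne1 hne2
          (btw_card_lt C hbq (fun x => between_both hb₀ hbq) (fun x hx e => (hbig x hx).ne (by rw [e])))
        rw [L.conj_of_rel hself hS₀ hrel]
        refine mul_mem (L.y_mem hq c) (L.evalT_mem _ _ fun e he => ?_)
        have hbe := terms_between H hne1 hne2 he
        exact hup' q hq _ (between_both hb₀ hbq hbe) (hbig _ hbe)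
      | one => simp
      | mul x z _ _ hx hz => convert mul_mem hx hz using 1; group
      | inv x _ hx => convert inv_mem hx using 1; group
    have dec : ∀ g ∈ L.gp (U : Set (Rt D)), ∃ b : K, ∃ w ∈ L.gp (U' : Set (Rt D)), g = L.y q₀ b * w := by
      have hadd := L.y_add (hself q₀ (hS.closed r hr s hs q₀ hb₀))
      intro g hg
      induction hg using Subgroup.closure_induction with
      | mem x hx =>
        obtain ⟨q, hq, c, rfl⟩ := hx
        by_cases e : q = q₀
        · subst e; exact ⟨c, 1, one_mem _, (mul_one _).symm⟩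
        · exact ⟨0, _, L.y_mem (Finset.mem_erase.2 ⟨e, hq⟩) c, by rw [L.y_zero, one_mul]⟩
      | one => exact ⟨0, 1, one_mem _, by rw [L.y_zero, one_mul]⟩
      | mul x z _ _ hx hz =>
        obtain ⟨b, w, hw, rfl⟩ := hx
        obtain ⟨b', w', hw', rfl⟩ := hz
        refine ⟨b + b', (L.y q₀ b')⁻¹ * w * L.y q₀ b' * w', mul_mem ?_ hw', ?_⟩
        · have := conj (-b') w hw
          rwa [← L.y_inv (hself q₀ (hS.closed r hr s hs q₀ hb₀)), inv_inv] at this
        · rw [← hadd]; group
      | inv x _ hx =>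
        obtain ⟨b, w, hw, rfl⟩ := hx
        refine ⟨-b, L.y q₀ b * w⁻¹ * (L.y q₀ b)⁻¹, conj b _ (inv_mem hw), ?_⟩
        rw [← L.y_inv (hself q₀ (hS.closed r hr s hs q₀ hb₀))]
        group
    obtain ⟨b, w, hw, rfl⟩ := dec g hg
    have hc : 0 ≤ lin μ (C.v q₀) := (hpos q₀ hb₀).le
    have hwU : π w ∈ (upperU K (fun a : D.Idx => lin μ (C.wt a)) (lin μ (C.v q₀)) hc : Subgroup (GL D.Idx K)) := by
      have hle : L.gp (U' : Set (Rt D)) ≤ (upperU K (fun a : D.Idx => lin μ (C.wt a)) (lin μ (C.v q₀)) hc).comap π := by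
        refine (Subgroup.closure_le _).2 ?_
        rintro x ⟨q, hq, t, rfl⟩
        simp only [Subgroup.coe_comap, Set.mem_preimage, SetLike.mem_coe]
        rw [L.spec_y]
        exact X_mem_upperU C μ hc (hlt q hq) t
      exact hle hw
    rw [map_mul, L.spec_y, mul_eq_one_iff_eq_inv] at hg1
    have hb : b = 0 := eq_zero_of_mem_upperU C μ hc (t := b) (hg1.symm ▸ Subgroup.inv_mem _ hwU)
    subst hb
    rw [L.y_zero, one_mul]
    rw [C.X_zero, eq_comm, inv_eq_one] at hg1
    exact ih U' (Finset.erase_ssubset hq₀) (fun q hq => hU q (Finset.mem_of_mem_erase hq)) hup' w hw hg1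

/-- Steinberg's commutator relations hold for the canonical lifts. -/
theorem rel : ∀ r ∈ S, ∀ s ∈ S, s ≠ r → s ≠ r.rev → L.Rel r s := by
  suffices ∀ n, ∀ r ∈ S, ∀ s ∈ S, s ≠ r → s ≠ r.rev → (btw C r s).card = n → L.Rel r s from
    fun r hr s hs h1 h2 => this _ r hr s hs h1 h2 rfl
  intro n
  induction n using Nat.strong_induction_on with
  | _ n ihn =>
  intro r hr s hs hrs hne hn
  have IH : ∀ a ∈ S, ∀ b ∈ S, b ≠ a → b ≠ a.rev → (btw C a b).card < (btw C r s).card → L.Rel a b :=
    fun a ha b hb h1 h2 hlt => ihn _ (hn ▸ hlt) a ha b hb h1 h2 rfl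
  have hg := hS.gram r hr s hs hrs hne
  set T : Set (Rt D) := {q | Between C r s q} with hT
  -- normalisation by the two roots
  have norm : ∀ a : Rt D, (a = r ∨ a = s) → ∀ (b : K) (w : E), w ∈ L.gp T →
      L.y a b * w * (L.y a b)⁻¹ ∈ L.gp T := by
    intro a haa b w hw
    have haS : a ∈ S := by rcases haa with rfl | rfl <;> assumption
    induction hw using Subgroup.closure_induction with
    | mem x hx =>
      obtain ⟨q, hq, c, rfl⟩ := hx
      obtain ⟨n1, n2, n3, n4⟩ := between_ne C hg hq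
      have hne1 : q ≠ a := by rcases haa with rfl | rfl <;> assumption
      have hne2 : q ≠ a.rev := by rcases haa with rfl | rfl <;> assumption
      have hsub : ∀ x, Between C a q x → Between C r s x := by
        rcases haa with rfl | rfl
        · exact fun x => between_right hq
        · exact fun x => between_left hq
      have hqS := hS.closed r hr s hs q hq
      have hrel : L.Rel a q := IH a haS q hqS hne1 hne2 (btw_card_lt C hq hsub
        (fun x hx e => (between_ne C (hS.gram a haS q hqS hne1 hne2) hx).2.2.1 e))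
      rw [L.conj_of_rel hself haS hrel]
      exact mul_mem (L.y_mem hq c) (L.evalT_mem _ _ fun e he => hsub _ (terms_between H hne1 hne2 he))
    | one => simp
    | mul x z _ _ hx hz => convert mul_mem hx hz using 1; group
    | inv x _ hx => convert inv_mem hx using 1; group
  -- the defect
  let Z : K → K → E := fun t u =>
    (L.y s u)⁻¹ * (L.y r t)⁻¹ * L.y s u * L.y r t * (evalT L.y t u (terms r s))⁻¹
  have hZ : ∀ t u, π (Z t u) = 1 := fun t u => by
    simp only [Z, map_mul, map_inv, L.spec_y, L.spec_evalT, X_comm C H r s hrs hne, mul_inv_cancel]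
  have hcz : ∀ t u g, Z t u * g = g * Z t u := fun t u g => L.ker_central (hZ t u) g
  have hcomm : ∀ t u, (L.y s u)⁻¹ * (L.y r t)⁻¹ * L.y s u * L.y r t = Z t u * evalT L.y t u (terms r s) :=
    fun t u => by simp only [Z, inv_mul_cancel_right]
  have hev : ∀ t u, evalT L.y t u (terms r s) ∈ L.gp T := fun t u =>
    L.evalT_mem t u fun e he => terms_between H hrs hne he
  have hinj : ∀ {g : E}, g ∈ L.gp T → π g = 1 → g = 1 := fun {g} hg' h1 =>
    L.gp_inter_ker H hS hself hr hs hrs hne IH hg' h1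
  have split : ∀ {z w w' : E}, π z = 1 → w ∈ L.gp T → w' ∈ L.gp T → z * w = w' → z = 1 := by
    intro z w w' hz hw hw' e
    refine hinj ?_ hz
    rw [eq_mul_inv_of_mul_eq e]
    exact mul_mem hw' (inv_mem hw)
  have add1 : ∀ t t' u, Z (t + t') u = Z t u * Z t' u := by
    intro t t' u
    have hw : (L.y r t')⁻¹ * evalT L.y t u (terms r s) * L.y r t' ∈ L.gp T := by
      have := norm r (Or.inl rfl) (-t') _ (hev t u)
      rwa [← L.y_inv (hself r hr), inv_inv] at this
    have e : Z (t + t') u * evalT L.y (t + t') u (terms r s) =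
        Z t u * Z t' u * (evalT L.y t' u (terms r s) *
          ((L.y r t')⁻¹ * evalT L.y t u (terms r s) * L.y r t')) := by
      rw [← hcomm, ← L.y_add (hself r hr)]
      calc (L.y s u)⁻¹ * (L.y r t * L.y r t')⁻¹ * L.y s u * (L.y r t * L.y r t')
          = ((L.y s u)⁻¹ * (L.y r t')⁻¹ * L.y s u * L.y r t') *
            ((L.y r t')⁻¹ * ((L.y s u)⁻¹ * (L.y r t)⁻¹ * L.y s u * L.y r t) * L.y r t') := by group
        _ = (Z t' u * evalT L.y t' u (terms r s)) *
            ((L.y r t')⁻¹ * (Z t u * evalT L.y t u (terms r s)) * L.y r t') := by rw [hcomm, hcomm]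
        _ = _ := by
          rw [← mul_assoc (L.y r t')⁻¹, ← hcz t u (L.y r t')⁻¹]
          simp only [mul_assoc]
          rw [← mul_assoc _ (Z t u), ← hcz t u (evalT L.y t' u (terms r s))]
          simp only [← mul_assoc]
          rw [← hcz t u (Z t' u)]
    exact mul_inv_eq_one.1 (split (z := Z (t + t') u * (Z t u * Z t' u)⁻¹) (by simp [hZ])
      (hev (t + t') u) (mul_mem (hev t' u) hw) (by
        rw [mul_assoc, L.ker_central (show π (Z t u * Z t' u)⁻¹ = 1 by simp [hZ]), ← mul_assoc, e,
          mul_assoc (Z t u * Z t' u), ← L.ker_central (show π (Z t u * Z t' u)⁻¹ = 1 by simp [hZ]),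
          mul_inv_cancel_left]))
  have add2 : ∀ t u u', Z t (u + u') = Z t u * Z t u' := by
    intro t u u'
    have hw : (L.y s u')⁻¹ * evalT L.y t u (terms r s) * L.y s u' ∈ L.gp T := by
      have := norm s (Or.inr rfl) (-u') _ (hev t u)
      rwa [← L.y_inv (hself s hs), inv_inv] at this
    have e : Z t (u + u') * evalT L.y t (u + u') (terms r s) =
        Z t u * Z t u' * (((L.y s u')⁻¹ * evalT L.y t u (terms r s) * L.y s u') *
          evalT L.y t u' (terms r s)) := by
      rw [← hcomm, ← L.y_add (hself s hs)]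
      calc (L.y s u * L.y s u')⁻¹ * (L.y r t)⁻¹ * (L.y s u * L.y s u') * L.y r t
          = ((L.y s u')⁻¹ * ((L.y s u)⁻¹ * (L.y r t)⁻¹ * L.y s u * L.y r t) * L.y s u') *
            ((L.y s u')⁻¹ * (L.y r t)⁻¹ * L.y s u' * L.y r t) := by group
        _ = ((L.y s u')⁻¹ * (Z t u * evalT L.y t u (terms r s)) * L.y s u') *
            (Z t u' * evalT L.y t u' (terms r s)) := by rw [hcomm, hcomm]
        _ = _ := by
          rw [← mul_assoc (L.y s u')⁻¹, ← hcz t u (L.y s u')⁻¹]
          simp only [mul_assoc]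
          rw [← mul_assoc (L.y s u') (Z t u'), ← hcz t u' (L.y s u')]
          simp only [← mul_assoc]
          rw [mul_assoc (Z t u) (L.y s u')⁻¹, mul_assoc (Z t u), mul_assoc (Z t u)]
          rw [← hcz t u' ((L.y s u')⁻¹ * evalT L.y t u (terms r s))]
          simp only [mul_assoc]
    exact mul_inv_eq_one.1 (split (z := Z t (u + u') * (Z t u * Z t u')⁻¹) (by simp [hZ])
      (hev t (u + u')) (mul_mem hw (hev t u')) (by
        rw [mul_assoc, L.ker_central (show π (Z t u * Z t u')⁻¹ = 1 by simp [hZ]), ← mul_assoc, e,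
          mul_assoc (Z t u * Z t u'), ← L.ker_central (show π (Z t u * Z t u')⁻¹ = 1 by simp [hZ]),
          mul_inv_cancel_left]))
  have hinvZ : ∀ (c : Fin D.rank → Kˣ) t u, Z ((C.chA c r : K) * t) ((C.chA c s : K) * u) = Z t u := by
    intro c t u
    calc Z ((C.chA c r : K) * t) ((C.chA c s : K) * u) = L.tor c * Z t u * (L.tor c)⁻¹ := by
          simp only [Z, ← L.tor_conj_y, ← L.tor_conj_evalT c H hrs hne]
          group
      _ = Z t u := by rw [← hcz, mul_inv_cancel_right]
  intro t u
  rw [← mul_inv_eq_one]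
  show Z t u = 1
  rcases hS.sep r hr s hs hrs hne with ⟨c, h1, h2⟩ | ⟨c, h1, h2⟩ | ⟨h1, h2⟩ | ⟨h1, h2⟩
  · have hα : (C.chA c r : K) - 1 ≠ 0 := sub_ne_zero.2 fun h => h1 (Units.ext h)
    have key := add1 (((C.chA c r : K) - 1) * (t / ((C.chA c r : K) - 1))) (t / ((C.chA c r : K) - 1)) u
    have e := hinvZ c (t / ((C.chA c r : K) - 1)) u
    rw [h2, Units.val_one, one_mul] at e
    rw [show ((C.chA c r : K) - 1) * (t / ((C.chA c r : K) - 1)) + t / ((C.chA c r : K) - 1) =
      (C.chA c r : K) * (t / ((C.chA c r : K) - 1)) by ring, e, mul_div_cancel₀ _ hα, right_eq_mul] at key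
    exact key
  · have hα : (C.chA c s : K) - 1 ≠ 0 := sub_ne_zero.2 fun h => h2 (Units.ext h)
    have key := add2 t (((C.chA c s : K) - 1) * (u / ((C.chA c s : K) - 1))) (u / ((C.chA c s : K) - 1))
    have e := hinvZ c t (u / ((C.chA c s : K) - 1))
    rw [h1, Units.val_one, one_mul] at e
    rw [show ((C.chA c s : K) - 1) * (u / ((C.chA c s : K) - 1)) + u / ((C.chA c s : K) - 1) =
      (C.chA c s : K) * (u / ((C.chA c s : K) - 1)) by ring, e, mul_div_cancel₀ _ hα, right_eq_mul] at key
    exact key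
  · have hc : Commute (L.y r t) (L.y s u) :=
      (L.commute_congr rfl (L.congr_a r t) (L.commute_congr rfl (L.congr_a s u) (h2 t u)).symm).symm
    simp only [Z, terms_nil H hrs hne h1, evalT, List.map_nil, List.prod_nil, inv_one, mul_one]
    rw [mul_assoc ((L.y s u)⁻¹ * (L.y r t)⁻¹), ← hc.eq]
    group
  · simp only [Z, h2 t u, mul_inv_cancel]

end Lifts

end Cfsg.Agent.Lib.ChevLift
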