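import Cfsg.Agent.Lib.ChevLift.Self
import Cfsg.Agent.Lib.CurtisTits.Iso
import Cfsg.Agent.Lib.ChevStructure.WeylN
import Cfsg.Prelude.Def_SteinbergCover

/-!
The group presented by Steinberg's relations (R1), (R2) lifts to every central extension of the Chevalley
group, under conditions on the torus that only involve the rank two subsystems.
-/

set_option autoImplicit false
set_option linter.unusedSectionVars false

namespace Cfsg.Agent.Lib.ChevLift

open Cfsg.Lie
open Cfsg.Agent.Lib.ChevStructure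
open Cfsg.Agent.Lib.CurtisTits
open scoped MatrixGroups Matrix

variable {D : ChevalleyDatum}

/-- The conditions used by the lifting. -/
structure Cond (C : Core D) (K : Type*) [Field K] : Prop where
  move : ∀ r : Rt D, ∃ c : Fin D.rank → Kˣ, C.chA c r ≠ 1
  gram : ∀ (i j : Fin D.rank) (r s : Rt D), InS C i j r → InS C i j s → s ≠ r → s ≠ r.rev →
    pr D r s * pr D s r < 4
  sep : ∀ (i j : Fin D.rank) (r s : Rt D), InS C i j r → InS C i j s → s ≠ r → s ≠ r.rev →
    (∃ c : Fin D.rank → Kˣ, C.chA c r ≠ 1 ∧ C.chA c s = 1) ∨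
      (∃ c : Fin D.rank → Kˣ, C.chA c r = 1 ∧ C.chA c s ≠ 1)
  self : ∀ r : Rt D, Bas C r →
    (∃ (i j : Fin D.rank) (p q : Rt D) (pre post : List (Term D)) (c : ℤ) (a b : ℕ),
      InS C i j r ∧ InS C i j p ∧ InS C i j q ∧ Lifts.SelfData C r p q pre post c a b) ∨
    ((∀ z : Kˣ, ∃ c : Fin D.rank → Kˣ, C.chA c r = z) ∧ ∃ k : K, k ≠ 0 ∧ k ≠ 1 ∧ k * (1 - k) ≠ 1)

theorem inS_between (C : Core D) {i j : Fin D.rank} {r s q : Rt D} (hr : InS C i j r) (hs : InS C i j s)
    (hq : Between C r s q) : InS C i j q := by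
  obtain ⟨a, b, -, -, e⟩ := hq
  intro k h1 h2
  rw [e, Pi.add_apply, Pi.smul_apply, Pi.smul_apply, hr k h1 h2, hs k h1 h2]
  simp

variable {K : Type*} [Field K] {C : Core D} {E : Type*} [Group E]

theorem Lifts.localOf {π : E →* GL D.Idx K} (L : Lifts C π) (hc : Cond C K) (i j : Fin D.rank) :
    Local L {r | InS C i j r} :=
  ⟨fun _ hr _ hs _ hq => inS_between C hr hs hq, fun r hr s hs => hc.gram i j r s hr hs,
    fun r hr s hs h h' => (hc.sep i j r s hr hs h h').elim Or.inl (Or.inr ∘ Or.inl)⟩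

theorem Lifts.self_all (H : CommOK C) {π : E →* GL D.Idx K} (L : Lifts C π) (hc : Cond C K) {r : Rt D}
    (hr : Bas C r) (t u : K) : Commute (L.a r t) (L.a r u) := by
  rcases hc.self r hr with ⟨i, j, p, q, pre, post, c, a, b, h1, h2, h3, h4⟩ | ⟨hsc, hk⟩
  · exact L.self_of_data H (L.localOf hc i j) h1 h2 h3 h4 t u
  · exact L.self_of_scalar H hsc hk t u

section

universe u

variable {K : Type u} [Field K] {C : Core D} {T : Tree C}

/-- Root lifts satisfying the relations inside the subsystems of rank two give a lift of the cover. -/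
theorem exists_lift_of_y (cert : Cert.{u} C T) {E : Type*} [Group E] (π : E →* GL D.Idx K) (y : Rt D → K → E)
    (hy : ∀ r, Bas C r → ∀ t, π (y r t) = C.X K r t)
    (hadd : ∀ r, Bas C r → ∀ t u, y r t * y r u = y r (t + u))
    (hrel : ∀ (i j : Fin D.rank) (r s : Rt D), InS C i j r → InS C i j s → s ≠ r → s ≠ r.rev → ∀ t u,
      (y s u)⁻¹ * (y r t)⁻¹ * y s u * y r t = evalT y t u (terms r s)) :
    ∃ τ : D.SteinbergCover K →* E, ∀ (r : Rt D) (t : K), π (τ (D.scGen K r.val t)) = C.X K r t := by
  classical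
  have hrels : ∀ g ∈ ctwRels D K,
      FreeGroup.lift (fun x : Fin D.nroots × K => if Bas C x.1 then y x.1 x.2 else 1) g = 1 := by
    rintro g ((⟨r, t, hr, hn, rfl⟩ | ⟨i, j, r, t, u, H, rfl⟩) | ⟨i, j, r, s, t, u, H, H', hne, hne', rfl⟩)
    · lift r to Rt D using hr
      simp only [ChevalleyDatum.stX, dif_pos r.isLt, FreeGroup.lift_apply_of]
      rw [if_neg]
      exact fun ⟨a, b, hab⟩ => hn a b ((inS_iff C cert.hyp).2 hab)
    · obtain ⟨a, b, x, -, -, rfl, hs⟩ := exists_inS C cert.hyp H
      simp only [map_mul, map_inv, ChevalleyDatum.stX, dif_pos x.isLt, FreeGroup.lift_apply_of, Fin.eta,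
        if_pos (bas_of C hs)]
      rw [hadd x (bas_of C hs), mul_inv_cancel]
    · obtain ⟨a, b, x, rfl, rfl, rfl, hx⟩ := exists_inS C cert.hyp H
      lift s to Rt D using H'.1 with z
      have hz : InS C a b z := (inS_iff C cert.hyp).1 H'
      have h0 : z ≠ x := fun e => hne (congrArg Fin.val e)
      have h1 : z ≠ x.rev := fun e => hne' (by rw [e, neg_val C cert.hyp x])
      have e1 : FreeGroup.lift (fun x : Fin D.nroots × K => if Bas C x.1 then y x.1 x.2 else 1)
          (D.stWord (D.commWord K x.val z.val t u)) = evalT y t u (terms x z) := by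
        rw [commWord_eq cert.hyp.ok x z h0 h1]
        simp only [ChevalleyDatum.stWord, map_list_prod, List.map_map, evalT]
        congr 1
        refine List.map_congr_left fun e he => ?_
        simp only [Function.comp_apply, ChevalleyDatum.stX, dif_pos e.1.isLt, FreeGroup.lift_apply_of, Fin.eta]
        rw [if_pos (bas_of C (inS_terms C cert.hyp h0 h1 hx hz e he))]
      simp only [map_mul, map_inv, e1, ChevalleyDatum.stX, dif_pos x.isLt, dif_pos z.isLt,
        FreeGroup.lift_apply_of, Fin.eta, if_pos (bas_of C hx), if_pos (bas_of C hz)]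
      rw [hrel a b x z hx hz h0 h1, mul_inv_cancel]
  refine ⟨(PresentedGroup.toGroup hrels).comp (psiW cert), fun r t => ?_⟩
  have e : π.comp (PresentedGroup.toGroup hrels) = theta C cert.hyp := by
    refine PresentedGroup.ext fun ⟨x, w⟩ => ?_
    rw [MonoidHom.comp_apply, PresentedGroup.toGroup.of, theta, PresentedGroup.toGroup.of, thetaGen]
    split_ifs with hx
    · exact hy x hx w
    · exact map_one π
  rw [MonoidHom.comp_apply, psiW_gen cert, ← MonoidHom.comp_apply, e, theta_Y C cert.hyp T]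

/-- **Lifting**: Steinberg's relations (R1) and (R2) hold in every central extension of the Chevalley group. -/
theorem exists_lift (cert : Cert.{u} C T) (hc : Cond C K) {E : Type*} [Group E] (π : E →* GL D.Idx K)
    (hk : π.ker ≤ Subgroup.center E) (hπ : ∀ g ∈ D.group K, ∃ e, π e = g) :
    ∃ τ : D.SteinbergCover K →* E, ∀ (r : Rt D) (t : K), π (τ (D.scGen K r.val t)) = C.X K r t := by
  classical
  have hX : ∀ (r : Rt D) (t : K), ∃ e, π e = C.X K r t := fun r t => hπ _ (C.X_mem_group r t)
  have hH : ∀ c : Fin D.rank → Kˣ, ∃ e, π e = C.HT K c := fun c => hπ _ (C.HT_mem_group c)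
  choose a ha using hX
  choose tor htor using hH
  choose c hcne using hc.move
  let L : Lifts C π := Lifts.ofMove hk ha htor hcne
  exact exists_lift_of_y cert π L.y (fun r _ => L.spec_y r)
    (fun r hr => L.y_add (L.self_all cert.hyp.ok hc hr))
    fun i j r s hr hs h0 h1 => L.rel cert.hyp.ok (L.localOf hc i j)
      (fun x hx => L.self_all cert.hyp.ok hc (bas_of C hx)) r hr s hs h0 h1

end

end Cfsg.Agent.Lib.ChevLift
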