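import Cfsg.Agent.Lib.ChevLift.Engine

/-!
The lifts of the elements of one root subgroup commute: either the root element is, up to commuting
factors, a commutator fixed by conjugation, or the torus realises every scalar on the root.
-/

set_option autoImplicit false
set_option linter.unusedSectionVars false

namespace Cfsg.Agent.Lib.ChevLift

open Cfsg.Lie
open Cfsg.Agent.Lib.ChevStructure
open Cfsg.Agent.Lib.CurtisTits
open scoped MatrixGroups Matrix commutatorElement

variable {D : ChevalleyDatum} {K : Type*} [Field K] {E : Type*} [Group E]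
  {C : Core D} {π : E →* GL D.Idx K} (L : Lifts C π)

namespace Lifts

/-- The data expressing a root element through a commutator whose factors behave well. -/
def SelfData (C : Core D) (r p q : Rt D) (pre post : List (Term D)) (c : ℤ) (a b : ℕ) : Prop :=
  q ≠ p ∧ q ≠ p.rev ∧ p ≠ r ∧ p ≠ r.rev ∧ q ≠ r ∧ q ≠ r.rev ∧ (∀ x, ¬ Between C r p x) ∧
    (∀ e ∈ terms r q, e.1 ≠ p ∧ e.1 ≠ p.rev ∧ ∀ x, ¬ Between C p e.1 x) ∧
    terms p q = pre ++ (r, c, a, b) :: post ∧ (c = 1 ∨ c = -1) ∧ (a = 1 ∨ b = 1) ∧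
    ∀ e ∈ pre ++ post, e.1 ≠ r ∧ e.1 ≠ r.rev ∧ ∀ x, ¬ Between C r e.1 x

variable (H : CommOK C) {S : Set (Rt D)} (hS : Local L S)
include H hS

theorem self_of_data {r p q : Rt D} (hr : r ∈ S) (hp : p ∈ S) (hq : q ∈ S) {pre post : List (Term D)}
    {c : ℤ} {a b : ℕ} (h : SelfData C r p q pre post c a b) (τ x : K) :
    Commute (L.a r τ) (L.a r x) := by
  obtain ⟨hqp, hqp', hpr, hpr', hqr, hqr', hrp, hrq, heq, hc, hab, hoth⟩ := h
  have hcK : (c : K) * (c : K) = 1 := by rcases hc with rfl | rfl <;> norm_num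
  obtain ⟨t, u, htu⟩ : ∃ t u : K, (c : K) * (-t) ^ a * u ^ b = x := by
    rcases hab with rfl | rfl
    · exact ⟨-((c : K) * x), 1, by rw [neg_neg, pow_one, one_pow, mul_one, ← mul_assoc, hcK, one_mul]⟩
    · exact ⟨-1, (c : K) * x, by rw [neg_neg, one_pow, mul_one, pow_one, ← mul_assoc, hcK, one_mul]⟩
  set A := L.a r τ
  set P := L.a p (-t)
  set Q := L.a q (-u)
  let g : List (Term D) → K → K → E := fun l s w => evalT L.a s w l
  have hg : ∀ l s w, π (g l s w) = evalT (C.X K) s w l := fun l s w => by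
    show π (evalT L.a s w l) = _
    rw [evalT_map]
    exact evalT_congr s w fun e _ d => L.spec_a e.1 d
  have hgc : ∀ (l : List (Term D)) (B : E) s w, (∀ e ∈ l, ∀ d, Commute B (L.a e.1 d)) → Commute B (g l s w) := by
    intro l B s w hl
    refine Commute.list_prod_right _ _ fun y hy => ?_
    rw [List.mem_map] at hy
    obtain ⟨e, he, rfl⟩ := hy
    exact hl e he _
  -- the commutator is fixed
  have hAP : Commute A P := L.commute_of_sep H hS hr hp hpr hpr' hrp τ (-t)
  set W := g (terms r q) (-τ) (-u)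
  have hWP : Commute P W := hgc _ _ _ _ fun e he d => by
    obtain ⟨h1, h2, h3⟩ := hrq e he
    exact L.commute_of_sep H hS hp (hS.closed r hr q hq e.1 (terms_between H hqr hqr' he)) h1 h2 h3 _ d
  have hAQ : π (A * Q * A⁻¹) = π (Q * W) := by
    rw [map_mul, map_mul, map_inv, map_mul, hg, L.spec_a, L.spec_a, ← X_comm C H r q hqr hqr' (-τ) (-u),
      C.X_inv K r (-τ), neg_neg, C.X_inv K r τ]
    group
  have hAC : Commute A ⁅Q, P⁆ := by
    have e : A * ⁅Q, P⁆ * A⁻¹ = ⁅Q, P⁆ := by
      rw [conjugate_commutatorElement, hAP.eq, mul_inv_cancel_right,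
        Lib.Schur.Fusion.commutator_congr L.ker_le hAQ (rfl : π P = π P), commutatorElement_def,
        commutatorElement_def, mul_inv_rev, mul_assoc Q W, ← hWP.eq]
      group
    exact mul_inv_eq_iff_eq_mul.1 e
  have hsep : ∀ e ∈ pre ++ post, ∀ d, Commute A (L.a e.1 d) := fun e he d => by
    obtain ⟨h1, h2, h3⟩ := hoth e he
    have hmem : e ∈ terms p q := by
      rw [heq]
      rcases List.mem_append.1 he with h | h
      · exact List.mem_append_left _ h
      · exact List.mem_append_right _ (List.mem_cons_of_mem _ h)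
    exact L.commute_of_sep H hS hr (hS.closed p hp q hq e.1 (terms_between H hqp hqp' hmem)) h1 h2 h3 τ d
  refine L.commute_congr (u := A) (w := (g pre t u)⁻¹ * ⁅Q, P⁆ * (g post t u)⁻¹) rfl ?_ ?_
  · rw [map_mul, map_mul, map_inv, map_inv, hg, hg, map_commutatorElement, L.spec_a, L.spec_a, L.spec_a]
    have e := X_comm C H p q hqp hqp' t u
    rw [heq, evalT, List.map_append, List.map_cons, List.prod_append, List.prod_cons, htu] at e
    rw [commutatorElement_def, ← C.X_inv K q u, ← C.X_inv K p t, inv_inv, inv_inv, e]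
    simp only [evalT]
    group
  · exact ((hgc pre A t u fun e he => hsep e (List.mem_append_left _ he)).inv_right.mul_right hAC).mul_right
      (hgc post A t u fun e he => hsep e (List.mem_append_right _ he)).inv_right

omit H hS in
/-- If the torus realises every scalar on a root, lifts of its root elements commute. -/
theorem self_of_scalar (H : CommOK C) {r : Rt D} (hsc : ∀ z : Kˣ, ∃ c, C.chA c r = z)
    (hK : ∃ k : K, k ≠ 0 ∧ k ≠ 1 ∧ k * (1 - k) ≠ 1) (t u : K) : Commute (L.a r t) (L.a r u) := by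
  have hk := L.ker_le
  have hcom : ∀ t u, Commute (π (L.a r t)) (π (L.a r u)) := fun t u => by
    rw [L.spec_a, L.spec_a]
    show C.X K r t * C.X K r u = C.X K r u * C.X K r t
    rw [C.X_add, C.X_add, add_comm]
  set f : K → K → E := fun t u => ⁅L.a r t, L.a r u⁆
  have hinv : ∀ z : K, z ≠ 0 → ∀ t u, f (z * t) (z * u) = f t u := by
    intro z hz t u
    obtain ⟨c, hc⟩ := hsc (Units.mk0 z hz)
    have hv : (C.chA c r : K) = z := by rw [hc]; rfl
    refine Lib.Schur.Fusion.commutator_conj hk (n := L.tor c) (hcom t u) ?_ ?_ <;>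
      rw [L.spec_a, L.spec_a, L.spec_tor, C.HT_X_conj, hv]
  have hadd1 : ∀ t t' u, f (t + t') u = f t' u * f t u := by
    intro t t' u
    show ⁅_, _⁆ = _
    rw [Lib.Schur.Fusion.commutator_congr hk (show π (L.a r (t + t')) = π (L.a r t * L.a r t') by
        rw [map_mul, L.spec_a, L.spec_a, L.spec_a, C.X_add]) rfl,
      commutatorElement_mul_left_eq_conj_mul,
      Subgroup.mem_center_iff.1 (Lib.Schur.Fusion.central_of_commute hk (hcom t' u)) (L.a r t),
      mul_inv_cancel_right]
  have hadd2 : ∀ t u u', f t (u + u') = f t u * f t u' := by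
    intro t u u'
    show ⁅_, _⁆ = _
    rw [Lib.Schur.Fusion.commutator_congr hk rfl (show π (L.a r (u + u')) = π (L.a r u * L.a r u') by
        rw [map_mul, L.spec_a, L.spec_a, L.spec_a, C.X_add]),
      Lib.Schur.Fusion.commutator_mul_right hk (hcom t u')]
  obtain ⟨k, hk0, hk1, hk2⟩ := hK
  have h1k : 1 - k ≠ 0 := sub_ne_zero.2 (Ne.symm hk1)
  have hmove : ∀ z : K, z ≠ 0 → ∀ t u, f (z * t) u = f t (u / z) := fun z hz t u => by
    conv_lhs => rw [← mul_div_cancel₀ u hz]
    exact hinv z hz t (u / z)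
  -- f(t, u) = f(t, u/k + u/(1-k)) = f(k(1-k) t, u)
  have key : ∀ t u, f t u = f (k * (1 - k) * t) u := by
    intro t u
    rw [hmove _ (mul_ne_zero hk0 h1k)]
    conv_lhs => rw [show t = (1 - k) * t + k * t by ring, hadd1, hmove k hk0, hmove _ h1k, ← hadd2]
    congr 1
    field_simp
    ring
  have h0 : k * (1 - k) - 1 ≠ 0 := sub_ne_zero.2 hk2
  have e := hadd1 ((k * (1 - k) - 1) * (t / (k * (1 - k) - 1))) (t / (k * (1 - k) - 1)) u
  rw [show (k * (1 - k) - 1) * (t / (k * (1 - k) - 1)) + t / (k * (1 - k) - 1) =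
    k * (1 - k) * (t / (k * (1 - k) - 1)) by ring, ← key, mul_div_cancel₀ _ h0, left_eq_mul] at e
  exact commutatorElement_eq_one_iff_commute.1 e

end Lifts

end Cfsg.Agent.Lib.ChevLift
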